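import Cfsg.Agent.Lib.CharTheory.PrimeSeparation
import Cfsg.Agent.Lib.CharTheory.Fixed
import Cfsg.Agent.Lib.CharTheory.RelDegreeShape
import Cfsg.Agent.Lib.Palfy.Dual
import Cfsg.Agent.Lib.Frobenius.Complement
import Cfsg.Agent.Lib.Frobenius.FixedPointFree

/-!
Tools for solvable groups without divisibility among the nonlinear degrees: counting fixed characters
by fixed classes, elements on which all nonlinear characters vanish, semiregular abelian actions.
-/

set_option autoImplicit false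

namespace CfsgLib.NoDivPair

open Cfsg CfsgLib CfsgLib.CharTheory
open scoped ComplexConjugate commutatorElement

universe u

variable {G : Type u} [Group G]

/-- Antichain for divisibility among numbers `> 1`. -/
def Anti (A : Set ℕ) : Prop := ∀ a ∈ A, ∀ b ∈ A, a ∣ b → a = b

theorem index_mul_degree_dvd [Finite G] (N : Subgroup G) [N.Normal] [Fintype N] {χ : G → ℂ}
    (hχ : IsIrrCharacter G χ) {θ : N → ℂ} (hθ : IsIrrCharacter N θ)
    (hc : classInner (fun n : N => χ n) θ ≠ 0) :
    (inertia N θ).index * charDegree θ ∣ charDegree χ := by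
  haveI := Fintype.ofFinite G
  obtain ⟨m, hm⟩ := classInner_char_nat (isCharacter_restrict (isCharacter_of_irr hχ) N)
    (isCharacter_of_irr hθ)
  have h := clifford_degree N hχ hθ hc
  rw [hm, (charDegree_spec' hχ).1, (charDegree_spec' hθ).1, ← Nat.cast_mul, ← Nat.cast_mul,
    Nat.cast_inj] at h
  exact ⟨m, by rw [h]; ring⟩

theorem degree_one_of_kernel_commutator [Finite G] {χ : G → ℂ} (hχ : IsIrrCharacter G χ)
    (hk : ∀ n ∈ commutator G, χ n = χ 1) : χ 1 = 1 := by
  obtain ⟨ψ, hψ, rfl⟩ := exists_quotient_irr (commutator G) hχ hk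
  exact degree_one_of_commutative (fun a b : Abelianization G => mul_comm a b) hψ

theorem charDegree_eq_one_iff [Finite G] {χ : G → ℂ} (hχ : IsIrrCharacter G χ) :
    charDegree χ = 1 ↔ χ 1 = 1 := by
  rw [(charDegree_spec' hχ).1, Nat.cast_eq_one]

/-! ### Fixed characters and fixed classes -/

/-- The characters fixed by conjugation by `y` are as many as the fixed classes. -/
theorem card_fixed_irr [Finite G] (W : Subgroup G) [W.Normal] (y : G) :
    Nat.card {χ : IrrCharacter W // conjNormFun W y (χ : W → ℂ) = χ} =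
      Nat.card {C : ConjClasses W // ConjClasses.map (MulAut.conjNormal y : W ≃* W).toMonoidHom C = C} := by
  haveI := Fintype.ofFinite G
  rw [← card_fixed_irr_eq_card_fixed_classes
    (fun C => ConjClasses.map (MulAut.conjNormal y : W ≃* W).toMonoidHom C)
    (fun χ => ⟨conjNormFun W y χ, isIrr_conjNormFun W y χ.2⟩) ?_]
  · exact Nat.card_congr (Equiv.subtypeEquivRight fun χ =>
      ⟨fun h => Subtype.ext h, fun h => congrArg Subtype.val h⟩)
  · intro χ g g' h
    show conjNormFun W y (χ : W → ℂ) g = _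
    rw [conjNormFun_eq]
    exact isClassFunction_iff_isConj.mp (isClassFunction_irr χ.2) _ _
      (ConjClasses.mk_eq_mk_iff_isConj.mp h.symm)

/-- If every fixed class meets `A`, there are at most `|A|` fixed characters. -/
theorem card_fixed_irr_le [Finite G] (W : Subgroup G) [W.Normal] (y : G) (A : Set W)
    (hA : ∀ x : W, IsConj ((MulAut.conjNormal y : W ≃* W) x) x → ∃ a ∈ A, IsConj a x) :
    Nat.card {χ : IrrCharacter W // conjNormFun W y (χ : W → ℂ) = χ} ≤ Nat.card A := by
  rw [card_fixed_irr]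
  choose a ha hconj using hA
  have hsurj : ∀ C : {C : ConjClasses W // ConjClasses.map (MulAut.conjNormal y : W ≃* W).toMonoidHom C = C},
      ∃ z : A, ConjClasses.mk (z : W) = C.1 := by
    rintro ⟨C, hC⟩
    obtain ⟨x, rfl⟩ := ConjClasses.mk_surjective C
    exact ⟨⟨a x (ConjClasses.mk_eq_mk_iff_isConj.mp hC), ha x _⟩,
      ConjClasses.mk_eq_mk_iff_isConj.mpr (hconj x _)⟩
  choose f hf using hsurj
  exact Nat.card_le_card_of_injective f fun C D h => Subtype.ext (by rw [← hf C, ← hf D, h])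

/-- `y` acts on `W` without fixed point other than `1`. -/
def Fpf (W : Subgroup G) (y : G) : Prop := ∀ x ∈ W, y * x = x * y → x = 1

theorem Fpf.exists_comm [Finite G] {W : Subgroup G} [hW : W.Normal] {y : G} (h : Fpf W y) (z : W) :
    ∃ n : W, (n : G)⁻¹ * (y * n * y⁻¹) = z := by
  have hinj : Function.Injective (fun n : W =>
      (⟨(n : G)⁻¹ * (y * n * y⁻¹), mul_mem (inv_mem n.2) (hW.conj_mem n n.2 y)⟩ : W)) := by
    intro a b e
    have e' : (a : G)⁻¹ * (y * a * y⁻¹) = (b : G)⁻¹ * (y * b * y⁻¹) := congrArg Subtype.val e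
    have h1 : y * ((b : G) * (a : G)⁻¹) = ((b : G) * (a : G)⁻¹) * y := by
      calc y * ((b : G) * (a : G)⁻¹) =
          b * ((b : G)⁻¹ * (y * b * y⁻¹)) * y * (a : G)⁻¹ := by group
        _ = b * ((a : G)⁻¹ * (y * a * y⁻¹)) * y * (a : G)⁻¹ := by rw [e']
        _ = ((b : G) * (a : G)⁻¹) * y := by group
    exact Subtype.ext (mul_inv_eq_one.mp (h _ (mul_mem b.2 (inv_mem a.2)) h1)).symm
  obtain ⟨n, hn⟩ := Finite.surjective_of_injective hinj z
  exact ⟨n, congrArg Subtype.val hn⟩

theorem Fpf.isConj_fixed [Finite G] {W : Subgroup G} [W.Normal] {y : G} (h : Fpf W y) {x : W}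
    (hx : IsConj ((MulAut.conjNormal y : W ≃* W) x) x) : x = 1 := by
  obtain ⟨c, hc⟩ := isConj_iff.mp hx
  have hc' : (c : G) * (y * x * y⁻¹) * (c : G)⁻¹ = x := congrArg Subtype.val hc
  obtain ⟨n, hn⟩ := h.exists_comm c
  rw [← hn] at hc'
  have h1 : (n : G) * x * (n : G)⁻¹ = 1 := by
    refine h _ (mul_mem (mul_mem n.2 x.2) (inv_mem n.2)) ?_
    calc y * ((n : G) * x * (n : G)⁻¹)
        = n * (((n : G)⁻¹ * (y * n * y⁻¹)) * (y * x * y⁻¹) * ((n : G)⁻¹ * (y * n * y⁻¹))⁻¹) *
            (n : G)⁻¹ * y := by group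
      _ = (n : G) * x * (n : G)⁻¹ * y := by rw [hc']
  exact Subtype.ext (conj_eq_one_iff.mp h1)

theorem Fpf.irr_eq_one [Finite G] {W : Subgroup G} [W.Normal] {y : G} (h : Fpf W y)
    {θ : W → ℂ} (hθ : IsIrrCharacter W θ) (hfix : conjNormFun W y θ = θ) : θ = fun _ => 1 := by
  have hle := card_fixed_irr_le W y {1} fun x hx => ⟨1, rfl, by rw [h.isConj_fixed hx]⟩
  rw [Nat.card_coe_set_eq, Set.ncard_singleton] at hle
  have := (Finite.card_le_one_iff_subsingleton.mp hle).elim
    (⟨⟨θ, hθ⟩, hfix⟩ : {χ : IrrCharacter W // conjNormFun W y (χ : W → ℂ) = χ})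
    ⟨⟨fun _ => 1, isIrrCharacter_one⟩, funext fun _ => rfl⟩
  exact congrArg (fun χ => χ.1.1) this

theorem Fpf.hom_eq_one [Finite G] {W : Subgroup G} [W.Normal] {y : G} (h : Fpf W y)
    {φ : W →* ℂˣ} (hfix : Palfy.dualAct W y φ = φ) : φ = 1 := by
  have hs : y ∈ Palfy.stab (Palfy.dualAct W) φ := hfix
  rw [Palfy.stab_eq_inertia] at hs
  have h1 := h.irr_eq_one (Palfy.isIrr_hom φ) ((mem_inertia W).mp hs)
  ext n
  exact congrFun h1 n

/-- Coprime case: the fixed classes meet the fixed points. -/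
theorem exists_fixed_of_class [Finite G] {q : ℕ} [Fact q.Prime] (W : Subgroup G) [W.Normal] {y : G}
    (hy : IsPGroup q (Subgroup.zpowers y)) (hW : ¬ q ∣ Nat.card W) {x : W}
    (hx : IsConj ((MulAut.conjNormal y : W ≃* W) x) x) :
    ∃ a : W, y * (a : G) = a * y ∧ IsConj a x := by
  classical
  let cn : Subgroup.zpowers y →* MulAut W :=
    (MulAut.conjNormal (H := W)).comp (Subgroup.zpowers y).subtype
  have hgen : ∀ t : Subgroup.zpowers y, ∀ a : W, IsConj a x → IsConj (cn t a) x := by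
    let St : Subgroup (MulAut W) :=
      { carrier := {σ | IsConj (σ x) x}
        one_mem' := IsConj.refl x
        mul_mem' := fun {σ τ} (hσ : IsConj (σ x) x) (hτ : IsConj (τ x) x) =>
          ((MonoidHom.map_isConj (σ : W ≃* W).toMonoidHom hτ).trans hσ :)
        inv_mem' := fun {σ} (hσ : IsConj (σ x) x) => by
          have h1 := MonoidHom.map_isConj (σ : W ≃* W).symm.toMonoidHom hσ
          simp only [MulEquiv.coe_toMonoidHom, MulEquiv.symm_apply_apply] at h1
          exact h1.symm }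
    intro t a ha
    obtain ⟨i, hi⟩ := t.2
    have hct : cn t ∈ St := by
      show MulAut.conjNormal (t : G) ∈ St
      rw [← hi, map_zpow]
      exact zpow_mem (show (MulAut.conjNormal y : MulAut W) ∈ St from hx) i
    exact (MonoidHom.map_isConj (cn t : W ≃* W).toMonoidHom ha).trans hct
  letI : MulAction (Subgroup.zpowers y) {a : W // IsConj a x} :=
    { smul := fun t a => ⟨cn t a.1, hgen t a.1 a.2⟩
      one_smul := fun a => Subtype.ext (by show cn 1 a.1 = a.1; rw [map_one]; rfl)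
      mul_smul := fun s t a => Subtype.ext (by show cn (s * t) a.1 = cn s (cn t a.1); rw [map_mul]; rfl) }
  have hnd : ¬ q ∣ Nat.card {a : W // IsConj a x} := by
    intro hd
    refine hW (hd.trans ⟨Nat.card (Subgroup.centralizer ({x} : Set W)), ?_⟩)
    rw [← card_isConj_mul_card_centralizer x]
    congr 1
    exact Nat.card_congr (Equiv.subtypeEquivRight fun a => ⟨IsConj.symm, IsConj.symm⟩)
  obtain ⟨⟨a, ha⟩, hfix⟩ := hy.nonempty_fixed_point_of_prime_not_dvd_card _ hnd
  refine ⟨a, ?_, ha⟩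
  have h1 : y * (a : G) * y⁻¹ = a :=
    congrArg (fun z : {a : W // IsConj a x} => ((z.1 : W) : G)) (hfix ⟨y, Subgroup.mem_zpowers y⟩)
  exact mul_inv_eq_iff_eq_mul.mp h1

/-! ### Elements moved modulo the derived group -/

/-- Where an automorphism fixes all nonlinear characters and moves an element modulo the derived group,
the centralizer is as small as possible. -/
theorem card_centralizer_of_moved [Finite G] (α : G ≃* G)
    (hinv : ∀ χ : IrrCharacter G, (χ : G → ℂ) 1 ≠ 1 → ∀ g, (χ : G → ℂ) (α g) = (χ : G → ℂ) g)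
    {x : G} (hx : α x * x⁻¹ ∉ commutator G) :
    Nat.card (Subgroup.centralizer ({x} : Set G)) = (commutator G).index := by
  classical
  haveI := Fintype.ofFinite G
  haveI : Fintype {χ : IrrCharacter G // (χ : G → ℂ) 1 = 1} := Fintype.ofFinite _
  set x' := α x with hx'
  -- the two rows
  have hne : ¬ IsConj x' x := fun h => hx (by
    obtain ⟨c, hc⟩ := isConj_iff.mp h
    have e : x' * x⁻¹ = ⁅x', c⁆ := by rw [commutatorElement_def, ← hc]; group
    rw [e]
    exact Subgroup.commutator_mem_commutator (Subgroup.mem_top _) (Subgroup.mem_top _))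
  obtain ⟨φ, hφ⟩ := Palfy.exists_hom_ne_one' hx
  have hlin_prod : ∀ χ : IrrCharacter G, (χ : G → ℂ) 1 = 1 →
      (χ : G → ℂ) x' * conj ((χ : G → ℂ) x) = (χ : G → ℂ) (x' * x⁻¹) := by
    intro χ h1
    obtain ⟨ψ, hψ⟩ := exists_hom_of_degree_one (isCharacter_of_irr χ.2) h1
    rw [← char_apply_inv (isCharacter_of_irr χ.2), hψ]
    simp [map_mul]
  -- the linear characters sum to zero
  have hzero : ∑ χ ∈ (Finset.univ : Finset (IrrCharacter G)).filter (fun χ : IrrCharacter G => (χ : G → ℂ) 1 = 1), (χ : G → ℂ) (x' * x⁻¹) = 0 := by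
    have key : ∑ χ ∈ (Finset.univ : Finset (IrrCharacter G)).filter (fun χ : IrrCharacter G => (χ : G → ℂ) 1 = 1), (χ : G → ℂ) (x' * x⁻¹) =
        (φ (x' * x⁻¹) : ℂ) * ∑ χ ∈ (Finset.univ : Finset (IrrCharacter G)).filter (fun χ : IrrCharacter G => (χ : G → ℂ) 1 = 1), (χ : G → ℂ) (x' * x⁻¹) := by
      rw [Finset.mul_sum]
      let F : (φ' : G →* ℂˣ) → IrrCharacter G → IrrCharacter G := fun φ' χ =>
        ⟨(χ : G → ℂ) * fun g => (φ' g : ℂ),
          isIrrCharacter_mul_linear χ.2 (isIrrCharacter_linear φ') (by simp)⟩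
      have hF : ∀ φ' χ, χ ∈ Finset.univ.filter (fun χ : IrrCharacter G => (χ : G → ℂ) 1 = 1) →
          F φ' χ ∈ Finset.univ.filter (fun χ : IrrCharacter G => (χ : G → ℂ) 1 = 1) := by
        intro φ' χ hχ
        simp only [Finset.mem_filter, Finset.mem_univ, true_and] at hχ ⊢
        show (χ : G → ℂ) 1 * (φ' 1 : ℂ) = 1
        rw [hχ, map_one, Units.val_one, mul_one]
      refine Finset.sum_bij' (fun χ _ => F φ⁻¹ χ) (fun χ _ => F φ χ) (hF _) (hF _) ?_ ?_ ?_
      · intro χ _
        refine Subtype.ext (funext fun g => ?_)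
        show (χ : G → ℂ) g * ((φ⁻¹ g : ℂˣ) : ℂ) * (φ g : ℂ) = _
        rw [MonoidHom.inv_apply, mul_assoc, Units.inv_mul, mul_one]
      · intro χ _
        refine Subtype.ext (funext fun g => ?_)
        show (χ : G → ℂ) g * (φ g : ℂ) * ((φ⁻¹ g : ℂˣ) : ℂ) = _
        rw [MonoidHom.inv_apply, mul_assoc, Units.mul_inv, mul_one]
      · intro χ _
        show _ = (φ (x' * x⁻¹) : ℂ) * ((χ : G → ℂ) _ * ((φ⁻¹ (x' * x⁻¹) : ℂˣ) : ℂ))
        rw [MonoidHom.inv_apply, mul_left_comm, Units.mul_inv, mul_one]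
    by_contra h0
    exact hφ (Units.ext ((mul_eq_right₀ h0).mp key.symm))
  have horth := sum_irr_mul_conj x' x
  rw [if_neg hne, ← Finset.sum_filter_add_sum_filter_not _ (fun χ : IrrCharacter G => (χ : G → ℂ) 1 = 1),
    Finset.sum_congr rfl (g := fun χ : IrrCharacter G => (χ : G → ℂ) (x' * x⁻¹)) (fun χ hχ => hlin_prod χ (Finset.mem_filter.mp hχ).2), hzero, zero_add] at horth
  have hvan : ∀ χ : IrrCharacter G, (χ : G → ℂ) 1 ≠ 1 → (χ : G → ℂ) x = 0 := by
    intro χ hχ
    rw [Finset.sum_congr rfl (g := fun χ : IrrCharacter G => (((Complex.normSq ((χ : G → ℂ) x)) : ℝ) : ℂ))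
      (fun ψ hψ => by rw [hinv ψ (Finset.mem_filter.mp hψ).2, Complex.mul_conj]),
      ← Complex.ofReal_sum, Complex.ofReal_eq_zero] at horth
    exact Complex.normSq_eq_zero.mp ((Finset.sum_eq_zero_iff_of_nonneg fun ψ _ => Complex.normSq_nonneg _).mp
      horth χ (Finset.mem_filter.mpr ⟨Finset.mem_univ _, hχ⟩))
  have h2 := sum_irr_mul_conj x x
  rw [if_pos (IsConj.refl x), ← Finset.sum_filter_add_sum_filter_not _ (fun χ : IrrCharacter G => (χ : G → ℂ) 1 = 1),
    Finset.sum_eq_zero (s := Finset.univ.filter fun χ : IrrCharacter G => ¬ (χ : G → ℂ) 1 = 1) (fun χ hχ => by rw [hvan χ (Finset.mem_filter.mp hχ).2, zero_mul]),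
    add_zero, Finset.sum_congr rfl (g := fun _ => (1 : ℂ)) (fun χ hχ => by
      obtain ⟨ψ, hψ⟩ := exists_hom_of_degree_one (isCharacter_of_irr χ.2) (Finset.mem_filter.mp hχ).2
      rw [← char_apply_inv (isCharacter_of_irr χ.2), hψ]
      simp)] at h2
  rw [Finset.sum_const, nsmul_eq_mul, mul_one, Nat.cast_inj] at h2
  rw [← h2, ← card_linear, Nat.card_eq_fintype_card, Fintype.card_subtype]

/-! ### Semiregular abelian actions -/

/-- Commuting stabilisers of equal-or-incomparable index coincide. -/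
theorem stab_eq_of_antichain [Finite G] {M : Type u} [CommGroup M] [Finite M] (act : G →* MulAut M) {H : Subgroup G}
    (hH : ∀ a ∈ H, ∀ b ∈ H, a * b = b * a)
    (hcop : ∀ z : M, H ≤ Palfy.stab act z → ∀ h ∈ H, ∀ m : M, act h m = m * z → z = 1)
    (hanti : ∀ m n : M, ¬ H ≤ Palfy.stab act m → ¬ H ≤ Palfy.stab act n →
      (Palfy.stab act m).relIndex H ∣ (Palfy.stab act n).relIndex H →
      (Palfy.stab act m).relIndex H = (Palfy.stab act n).relIndex H)
    {m n : M} (hm : ¬ H ≤ Palfy.stab act m) (hn : ¬ H ≤ Palfy.stab act n) :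
    Palfy.stab act m ⊓ H = Palfy.stab act n ⊓ H := by
  have hsub : ∀ a b : M, ¬ H ≤ Palfy.stab act a → ¬ H ≤ Palfy.stab act b →
      Palfy.stab act a ⊓ H ≤ Palfy.stab act b ⊓ H → Palfy.stab act a ⊓ H = Palfy.stab act b ⊓ H := by
    intro a b ha hb hle
    have h1 : ∀ c : M, (Palfy.stab act c).relIndex H = (Palfy.stab act c ⊓ H).relIndex H := fun c => by
      rw [Subgroup.inf_relIndex_right]
    have hd : (Palfy.stab act b).relIndex H ∣ (Palfy.stab act a).relIndex H := by
      rw [h1 a, h1 b]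
      exact Subgroup.relIndex_dvd_of_le_left H hle
    have he := hanti b a hb ha hd
    refine eq_of_le_of_not_lt hle fun hlt => ?_
    rw [h1 a, h1 b] at he
    have h2 := Subgroup.relIndex_mul_relIndex _ _ _ hle inf_le_right
    rw [he, mul_eq_right₀ (show (Palfy.stab act a ⊓ H).relIndex H ≠ 0 from Subgroup.index_ne_zero_of_finite), Subgroup.relIndex_eq_one] at h2
    exact hlt.not_ge h2
  set a := Palfy.stab act m ⊓ H with hadef
  set b := Palfy.stab act n ⊓ H with hbdef
  by_contra hne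
  -- a point fixed by both stabilisers is fixed by all of `H`
  have hcentral : ∀ z : M, a ≤ Palfy.stab act z → b ≤ Palfy.stab act z → H ≤ Palfy.stab act z := by
    intro z ha hb
    by_contra hz
    have e1 := hsub m z hm hz (le_inf ha inf_le_right)
    have e2 := hsub n z hn hz (le_inf hb inf_le_right)
    exact hne (e1.trans e2.symm)
  have hmn : ¬ H ≤ Palfy.stab act (m * n) := by
    intro hle
    refine hne (SetLike.ext fun h => ?_)
    simp only [hadef, hbdef, Subgroup.mem_inf, Palfy.mem_stab, and_congr_left_iff]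
    intro hh
    have h1 : act h m * act h n = m * n := by rw [← map_mul]; exact hle hh
    constructor
    · intro e; rw [e] at h1; exact mul_left_cancel h1
    · intro e; rw [e] at h1; exact mul_right_cancel h1
  have hint : Palfy.stab act (m * n) ⊓ H ≤ a := by
    rintro h ⟨hs, hh⟩
    refine ⟨?_, hh⟩
    -- `z := h m / m` is fixed by both
    set z := act h m * m⁻¹ with hz
    have hz' : z = (act h n * n⁻¹)⁻¹ := by
      have h1 : act h m * act h n = m * n := by rw [← map_mul]; exact hs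
      rw [hz, eq_inv_iff_mul_eq_one, mul_mul_mul_comm, h1, mul_mul_mul_comm]
      simp
    have hfix : ∀ c : M, ∀ k ∈ H, act k c = c → act k (act h c * c⁻¹) = act h c * c⁻¹ := by
      intro c k hk e
      rw [map_mul, map_inv, e, ← MulAut.mul_apply, ← map_mul, hH k hk h hh, map_mul, MulAut.mul_apply, e]
    have hzH := hcentral z (fun k hk => hfix m k hk.2 hk.1) (fun k hk => by
      rw [Palfy.mem_stab, hz', map_inv, hfix n k hk.2 hk.1])
    have h1 : z = 1 := hcop z hzH h hh m (by rw [hz, mul_comm m, inv_mul_cancel_right])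
    exact mul_inv_eq_one.mp h1
  have hea := hsub (m * n) m hmn hm (le_inf (hint.trans inf_le_left) inf_le_right)
  have hb : a ≤ b := by
    rintro h ⟨hs, hh⟩
    refine ⟨?_, hh⟩
    have h1 : h ∈ Palfy.stab act (m * n) ⊓ H := hea ▸ ⟨hs, hh⟩
    have h2 : act h (m * n) = m * n := h1.1
    rw [map_mul, (hs : act h m = m)] at h2
    exact mul_left_cancel h2
  exact hne (hsub m n hm hn hb)

/-- An abelian group of fixed-point-free automorphisms of an abelian group is cyclic. -/
theorem isCyclic_of_semiregular {M : Type u} [CommGroup M] [Finite M] [Nontrivial M] (A : Subgroup (MulAut M))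
    [IsMulCommutative A] (hfpf : ∀ a ∈ A, a ≠ 1 → ∀ m, a m = m → m = 1) : IsCyclic A := by
  haveI : Finite A := Finite.of_injective (fun a : A => ((a : MulAut M) : M → M))
    fun a b h => Subtype.ext (MulEquiv.ext (congrFun h))
  haveI : Finite (M ⋊[A.subtype] A) := Finite.of_equiv _ SemidirectProduct.equivProd.symm
  set V := (SemidirectProduct.inl (φ := A.subtype)).range
  set A' := (SemidirectProduct.inr (φ := A.subtype)).range
  haveI : IsMulCommutative V := ⟨⟨fun a b => Subtype.ext (by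
    obtain ⟨x, hx⟩ := a.2
    obtain ⟨y, hy⟩ := b.2
    rw [Subgroup.coe_mul, Subgroup.coe_mul, ← hx, ← hy, ← map_mul, ← map_mul, mul_comm])⟩⟩
  haveI : IsMulCommutative A' := ⟨⟨fun a b => Subtype.ext (by
    obtain ⟨x, hx⟩ := a.2
    obtain ⟨y, hy⟩ := b.2
    rw [Subgroup.coe_mul, Subgroup.coe_mul, ← hx, ← hy, ← map_mul, ← map_mul,
      ((IsMulCommutative.is_comm (M := A)).comm x y)])⟩⟩
  have hVn : V.Normal := by
    show (SemidirectProduct.inl (φ := A.subtype)).range.Normal
    rw [SemidirectProduct.range_inl_eq_ker_rightHom]; infer_instance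
  have hV : V ≠ ⊥ := by
    obtain ⟨m, hm⟩ := exists_ne (1 : M)
    intro e
    exact hm (SemidirectProduct.inl_injective ((Subgroup.mem_bot.mp (e ▸ ⟨m, rfl⟩ :
      SemidirectProduct.inl m ∈ (⊥ : Subgroup (M ⋊[A.subtype] A)))).trans (map_one _).symm))
  have hf : ∀ x ∈ A', x ≠ 1 → V ⊓ Subgroup.centralizer {x} = ⊥ := by
    rintro _ ⟨a, rfl⟩ hne
    refine eq_bot_iff.mpr ?_
    rintro _ ⟨⟨m, rfl⟩, hc⟩
    have h1 := Subgroup.mem_centralizer_singleton_iff.mp hc
    have ha : (a : MulAut M) ≠ 1 := fun e => hne (by rw [show a = 1 from Subtype.ext e, map_one])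
    have h2 := congrArg SemidirectProduct.left h1
    simp only [SemidirectProduct.mul_left, SemidirectProduct.left_inl, SemidirectProduct.left_inr,
      SemidirectProduct.right_inl, SemidirectProduct.right_inr, map_one, MulAut.one_apply, mul_one,
      one_mul] at h2
    rw [Subgroup.mem_bot, hfpf a a.2 ha m h2.symm, map_one]
  have := Frob.isCyclic_of_fpf_comm hV (A := A') (by
    intro x _; rw [Subgroup.normalizer_eq_top]; trivial) hf
  exact (MonoidHom.ofInjective (f := SemidirectProduct.inr (φ := A.subtype))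
    SemidirectProduct.inr_injective).isCyclic.mpr this

/-- A coprime automorphism of a cyclic `q`-group centralizing a nontrivial element is trivial. -/
theorem commute_of_cyclic [Finite G] {q : ℕ} [Fact q.Prime] {A : Subgroup G} [IsCyclic A]
    (hA : IsPGroup q A) {γ : G} (hγ : ∀ a ∈ A, γ * a * γ⁻¹ ∈ A) (hcop : (orderOf γ).Coprime q)
    {a₀ : G} (ha₀ : a₀ ∈ A) (hne : a₀ ≠ 1) (hc : γ * a₀ = a₀ * γ) : ∀ a ∈ A, γ * a = a * γ := by
  classical
  haveI : IsMulCommutative A := IsCyclic.isMulCommutative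
  have hab : ∀ a ∈ A, ∀ b ∈ A, a * b = b * a := fun a ha b hb =>
    congrArg Subtype.val ((IsMulCommutative.is_comm (M := A)).comm ⟨a, ha⟩ ⟨b, hb⟩)
  let d : A →* A :=
    { toFun := fun a => ⟨γ * a * γ⁻¹ * (a : G)⁻¹, mul_mem (hγ a a.2) (inv_mem a.2)⟩
      map_one' := Subtype.ext (by simp)
      map_mul' := fun a b => Subtype.ext (by
        show γ * ((a : G) * b) * γ⁻¹ * ((a : G) * b)⁻¹ = γ * a * γ⁻¹ * (a : G)⁻¹ * (γ * b * γ⁻¹ * (b : G)⁻¹)
        rw [mul_inv_rev]
        calc γ * ((a : G) * b) * γ⁻¹ * ((b : G)⁻¹ * (a : G)⁻¹)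
            = γ * a * γ⁻¹ * ((γ * b * γ⁻¹ * (b : G)⁻¹) * (a : G)⁻¹) := by group
          _ = γ * a * γ⁻¹ * ((a : G)⁻¹ * (γ * b * γ⁻¹ * (b : G)⁻¹)) := by
            rw [hab _ (mul_mem (hγ b b.2) (inv_mem b.2)) _ (inv_mem a.2)]
          _ = _ := by group) }
  have hdisj : d.ker ⊓ d.range = ⊥ := by
    refine eq_bot_iff.mpr ?_
    rintro z ⟨hzk, a, rfl⟩
    have hz : γ * (d a : G) * γ⁻¹ = d a := mul_inv_eq_one.mp (congrArg Subtype.val hzk)
    have hit : ∀ n : ℕ, γ ^ n * a * (γ ^ n)⁻¹ = (d a : G) ^ n * a := by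
      intro n
      induction n with
      | zero => simp
      | succ n ih =>
        rw [pow_succ' γ n]
        calc γ * γ ^ n * a * (γ * γ ^ n)⁻¹ = γ * (γ ^ n * a * (γ ^ n)⁻¹) * γ⁻¹ := by group
          _ = (γ * (d a : G) * γ⁻¹) ^ n * (γ * a * γ⁻¹) := by rw [ih, _root_.conj_pow]; group
          _ = _ := by
            rw [hz, pow_succ, mul_assoc _ (d a : G) (a : G)]
            congr 1
            show _ = γ * a * γ⁻¹ * (a : G)⁻¹ * a
            group
    have h1 := hit (orderOf γ)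
    rw [pow_orderOf_eq_one, one_mul, inv_one, mul_one, right_eq_mul] at h1
    refine Subgroup.mem_bot.mpr ?_
    obtain ⟨k, hk⟩ := hA (d a)
    have hco : (orderOf γ).Coprime (q ^ k) := hcop.pow_right k
    have h2 : orderOf (d a) ∣ orderOf γ := orderOf_dvd_of_pow_eq_one (Subtype.ext (by rw [Subgroup.coe_pow, Subgroup.coe_one]; exact h1))
    exact orderOf_eq_one_iff.mp (Nat.eq_one_of_dvd_coprimes hco h2 (orderOf_dvd_of_pow_eq_one hk))
  have hker : d.ker ≠ ⊥ := fun e => by
    have h1 : (⟨a₀, ha₀⟩ : A) ∈ d.ker := Subtype.ext (by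
      show γ * a₀ * γ⁻¹ * a₀⁻¹ = 1
      rw [hc, mul_inv_cancel_right, mul_inv_cancel])
    rw [e, Subgroup.mem_bot] at h1
    exact hne (congrArg Subtype.val h1)
  have hrange : d.range = ⊥ := by
    by_contra hr
    obtain ⟨u, hu⟩ := exists_prime_orderOf_dvd_card' (G := d.ker) q ((IsPGroup.to_subgroup hA d.ker).card_eq_or_dvd.resolve_left fun e => hker (Subgroup.card_eq_one.mp e))
    obtain ⟨v, hv⟩ := exists_prime_orderOf_dvd_card' (G := d.range) q ((IsPGroup.to_subgroup hA d.range).card_eq_or_dvd.resolve_left fun e => hr (Subgroup.card_eq_one.mp e))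
    rw [← Subgroup.orderOf_coe] at hu hv
    have huv : Subgroup.zpowers (u : A) = Subgroup.zpowers (v : A) := by
      letI : CommGroup A := IsCyclic.commGroup
      have hK : Nat.card (powMonoidHom (α := A) q).ker = q := by
        rw [IsCyclic.card_powMonoidHom_ker]
        exact Nat.gcd_eq_right (hu ▸ orderOf_dvd_natCard (u : A))
      have key : ∀ w : A, orderOf w = q → Subgroup.zpowers w = (powMonoidHom (α := A) q).ker :=
        fun w hw => Subgroup.eq_of_le_of_card_ge
          (Subgroup.zpowers_le.mpr (by rw [MonoidHom.mem_ker, powMonoidHom_apply, ← hw, pow_orderOf_eq_one]))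
          (by rw [hK, Nat.card_zpowers, hw])
      rw [key _ hu, key _ hv]
    have h1 : (u : A) ∈ d.ker ⊓ d.range :=
      ⟨u.2, (Subgroup.zpowers_le.mpr v.2) (huv ▸ Subgroup.mem_zpowers _)⟩
    rw [hdisj, Subgroup.mem_bot] at h1
    rw [h1, orderOf_one] at hu
    exact (Fact.out : q.Prime).ne_one hu.symm
  intro a ha
  have h1 : d ⟨a, ha⟩ = 1 := Subgroup.mem_bot.mp (hrange ▸ ⟨⟨a, ha⟩, rfl⟩)
  exact mul_inv_eq_iff_eq_mul.mp (mul_inv_eq_one.mp (congrArg Subtype.val h1))

end CfsgLib.NoDivPair
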