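import Cfsg.Agent.Lib.NoDivPair.Pair

/-!
A normal subgroup `N` of `G` all of whose nonlinear characters are invariant: degrees over a normal
subgroup of `N`, and the abelian Sylow factor.
-/

set_option autoImplicit false
set_option linter.unusedSectionVars false

namespace CfsgLib.NoDivPair

open Cfsg CfsgLib CfsgLib.CharTheory
open scoped commutatorElement

universe u

variable {G : Type u} [Group G] [Finite G]

/-- All nonlinear irreducible characters of `N` are `G`-invariant and have degree in `A`. -/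
def Good (N : Subgroup G) [N.Normal] (A : Set ℕ) : Prop :=
  ∀ θ : N → ℂ, IsIrrCharacter N θ → θ 1 ≠ 1 →
    (∀ k : G, conjNormFun N k θ = θ) ∧ charDegree θ ∈ A

theorem relIndex_sup_eq {W Q N I : Subgroup G} [W.Normal] (hN : W ⊔ Q = N) (hWI : W ≤ I) :
    I.relIndex N = I.relIndex Q := by
  classical
  have hQN : Q ≤ N := hN ▸ le_sup_right
  let F : Q ⧸ I.subgroupOf Q → N ⧸ I.subgroupOf N :=
    Quotient.map' (Subgroup.inclusion hQN) fun a b h => by
      rw [QuotientGroup.leftRel_apply] at h ⊢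
      exact Subgroup.mem_subgroupOf.mpr (Subgroup.mem_subgroupOf.mp h)
  refine (Nat.card_eq_of_bijective F ⟨fun a b e => ?_, fun c => ?_⟩).symm
  · obtain ⟨a, rfl⟩ := QuotientGroup.mk_surjective a
    obtain ⟨b, rfl⟩ := QuotientGroup.mk_surjective b
    have h1 : (Subgroup.inclusion hQN a : N ⧸ I.subgroupOf N) = Subgroup.inclusion hQN b := e
    rw [QuotientGroup.eq] at h1 ⊢
    exact Subgroup.mem_subgroupOf.mpr (Subgroup.mem_subgroupOf.mp h1 :)
  · obtain ⟨n, rfl⟩ := QuotientGroup.mk_surjective c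
    have hn : (n : G) ∈ Q ⊔ W := by rw [sup_comm, hN]; exact n.2
    obtain ⟨a, ha, w, hw, e⟩ := Subgroup.mem_sup_of_normal_right.mp hn
    refine ⟨((⟨a, ha⟩ : Q) : Q ⧸ _), ?_⟩
    show ((Subgroup.inclusion hQN ⟨a, ha⟩ : N) : N ⧸ I.subgroupOf N) = _
    rw [QuotientGroup.eq, Subgroup.mem_subgroupOf]
    show a⁻¹ * (n : G) ∈ I
    rw [← e, inv_mul_cancel_left]
    exact hWI hw

/-- The character of `W ≤ N` seen inside `N`. -/
def down (W N : Subgroup G) (θ : W → ℂ) : W.subgroupOf N → ℂ :=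
  fun x => θ ⟨(x : N), Subgroup.mem_subgroupOf.mp x.2⟩

theorem inertia_down {W N : Subgroup G} [W.Normal] (hWN : W ≤ N) (θ : W → ℂ) :
    inertia (W.subgroupOf N) (down W N θ) = (inertia W θ).subgroupOf N := by
  ext n
  rw [mem_inertia, Subgroup.mem_subgroupOf, mem_inertia]
  refine ⟨fun e => funext fun x => ?_, fun e => funext fun x => ?_⟩
  · exact congrFun e ⟨⟨x, hWN x.2⟩, Subgroup.mem_subgroupOf.mpr x.2⟩
  · exact congrFun e ⟨(x : N), Subgroup.mem_subgroupOf.mp x.2⟩

theorem charDegree_down {W N : Subgroup G} (θ : W → ℂ) : charDegree (down W N θ) = charDegree θ := rfl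

theorem constituent_trivial {W : Type u} [Group W] [Fintype W] {θ : W → ℂ} (hθ : IsIrrCharacter W θ)
    (h : classInner (fun _ : W => (1 : ℂ)) θ ≠ 0) : θ = fun _ => 1 := by
  classical
  by_contra hne
  refine h ?_
  rw [classInner_irr isIrrCharacter_one hθ, if_neg fun e => hne e.symm]

/-- A character over `θ`, with the divisibility of its degree. -/
theorem exists_over {W N : Subgroup G} [W.Normal] [N.Normal] (hWN : W ≤ N) {A : Set ℕ} (hgood : Good N A)
    {θ : W → ℂ} (hθ : IsIrrCharacter W θ) (hlin : ∀ w ∈ W, w ∈ ⁅N, N⁆) (hne : θ ≠ fun _ => 1) :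
    ∃ m ∈ A, (inertia W θ).relIndex N * charDegree θ ∣ m := by
  haveI := Fintype.ofFinite G
  haveI := Fintype.ofFinite N
  haveI := Fintype.ofFinite (W.subgroupOf N)
  have hθ' : IsIrrCharacter _ (down W N θ) := isIrr_subgroupOf W hWN hθ
  obtain ⟨χ, hχ, hc⟩ := exists_irr_above hθ'
  have hd := index_mul_degree_dvd _ hχ hθ' hc
  rw [inertia_down hWN, charDegree_down] at hd
  refine ⟨_, (hgood χ hχ fun h1 => hne ?_).2, hd⟩
  obtain ⟨φ, hφ⟩ := exists_hom_of_degree_one (isCharacter_of_irr hχ) h1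
  have hres : (fun n : W.subgroupOf N => χ n) = fun _ => (1 : ℂ) := by
    funext x
    have hx : (x : N) ∈ commutator N :=
      (Pair.mem_commutator_iff N _).mp (hlin _ (Subgroup.mem_subgroupOf.mp x.2))
    rw [hφ]
    show ((φ (x : N) : ℂˣ) : ℂ) = 1
    rw [show φ (x : N) = 1 from MonoidHom.mem_ker.mp (Abelianization.commutator_subset_ker φ hx), Units.val_one]
  rw [hres] at hc
  have h2 := constituent_trivial hθ' hc
  funext w
  exact congrFun h2 ⟨⟨w, hWN w.2⟩, Subgroup.mem_subgroupOf.mpr w.2⟩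

/-- An extendable character gives its index times its degree. -/
theorem exists_over_ext {W N : Subgroup G} [W.Normal] (hWN : W ≤ N) {θ : W → ℂ} (hθ : IsIrrCharacter W θ)
    {η : inertia (W.subgroupOf N) (down W N θ) → ℂ} (hη : IsCharacter _ η)
    (hle : W.subgroupOf N ≤ inertia (W.subgroupOf N) (down W N θ))
    (hext : ∀ n : W.subgroupOf N, η ⟨n, hle n.2⟩ = down W N θ n) :
    ∃ χ : N → ℂ, IsIrrCharacter N χ ∧ charDegree χ = (inertia W θ).relIndex N * charDegree θ := by
  haveI := Fintype.ofFinite G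
  haveI := Fintype.ofFinite N
  haveI := Fintype.ofFinite (W.subgroupOf N)
  obtain ⟨χ, hχ, -, hd⟩ := Palfy.degrees_over (isIrr_subgroupOf W hWN hθ)
    hle rfl hη hext isIrrCharacter_one
  refine ⟨χ, hχ, ?_⟩
  rw [hd, show ∀ {K : Type u} [Group K], charDegree (fun _ : K => (1 : ℂ)) = 1 from by
    intros; simp [charDegree]]
  rw [one_mul]
  exact congrArg₂ (· * ·) (congrArg Subgroup.index (inertia_down hWN θ)) rfl

/-- The coprime case. -/
theorem degree_mem_coprime {W N : Subgroup G} [W.Normal] [N.Normal] (hWN : W ≤ N)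
    (hcop : (Nat.card W).Coprime (W.relIndex N)) {A : Set ℕ} (hgood : Good N A)
    {θ : W → ℂ} (hθ : IsIrrCharacter W θ) (hne : (inertia W θ).relIndex N * charDegree θ ≠ 1) :
    (inertia W θ).relIndex N * charDegree θ ∈ A := by
  classical
  haveI := Fintype.ofFinite G
  haveI := Fintype.ofFinite N
  haveI := Fintype.ofFinite (W.subgroupOf N)
  have hθ' : IsIrrCharacter _ (down W N θ) := isIrr_subgroupOf W hWN hθ
  set T := inertia (W.subgroupOf N) (down W N θ) with hT
  have hle : W.subgroupOf N ≤ T := le_inertia _ (isClassFunction_irr hθ')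
  haveI := Fintype.ofFinite T
  haveI := Fintype.ofFinite ((W.subgroupOf N).subgroupOf T)
  have hco : (Nat.card ((W.subgroupOf N).subgroupOf T)).Coprime ((W.subgroupOf N).subgroupOf T).index := by
    rw [Nat.card_congr (Subgroup.subgroupOfEquivOfLe hle).toEquiv,
      Nat.card_congr (Subgroup.subgroupOfEquivOfLe hWN).toEquiv]
    exact hcop.coprime_dvd_right (Subgroup.relIndex_dvd_index_of_le hle)
  obtain ⟨η, hη, hext⟩ := PrimeSep.exists_extension_coprime ((W.subgroupOf N).subgroupOf T) hco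
    ⟨_, isIrr_subgroupOf (W.subgroupOf N) hle hθ'⟩ fun t => funext fun x => by
      have h := (mem_inertia (W.subgroupOf N)).mp t.2
      exact congrFun h ⟨((x : T) : N), Subgroup.mem_subgroupOf.mp x.2⟩
  obtain ⟨χ, hχ, hd⟩ := exists_over_ext hWN hθ (isCharacter_of_irr hη) hle
    (fun n => hext ⟨⟨n, hle n.2⟩, Subgroup.mem_subgroupOf.mpr n.2⟩)
  refine hd ▸ (hgood χ hχ fun h1 => hne ?_).2
  rw [← hd, charDegree_eq_one_iff hχ]
  exact h1

/-- A linear character of a normal subgroup with an abelian complement extends to its stabiliser. -/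
theorem degree_mem_split {X H N : Subgroup G} [X.Normal] [N.Normal] (hN : X ⊔ H = N) (hdis : H ⊓ X = ⊥)
    {A : Set ℕ} (hgood : Good N A) (φ : X →* ℂˣ)
    (hne : (inertia X fun n => (φ n : ℂ)).relIndex N ≠ 1) :
    (inertia X fun n => (φ n : ℂ)).relIndex N ∈ A := by
  classical
  have hXN : X ≤ N := hN ▸ le_sup_left
  have hθ := Palfy.isIrr_hom φ
  set T := inertia (X.subgroupOf N) (down X N fun n => (φ n : ℂ)) with hT
  have hmemN : ∀ n : N, ∃ h ∈ H, (n : G) * h⁻¹ ∈ X := by
    intro n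
    have hn : (n : G) ∈ X ⊔ H := by rw [hN]; exact n.2
    obtain ⟨x, hx, h, hh, e⟩ := Subgroup.mem_sup_of_normal_left.mp hn
    exact ⟨h, hh, by rw [← e, mul_inv_cancel_right]; exact hx⟩
  choose π hπH hπX using hmemN
  have huniq : ∀ (n : N) (h : G), h ∈ H → (n : G) * h⁻¹ ∈ X → π n = h := by
    intro n h hh hx
    have h0 : π n * h⁻¹ ∈ H := mul_mem (hπH n) (inv_mem hh)
    have h1 : π n * h⁻¹ ∈ H ⊓ X := ⟨h0, by
      have := mul_mem (inv_mem (hπX n)) hx
      simpa [mul_assoc] using this⟩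
    rw [hdis, Subgroup.mem_bot, mul_inv_eq_one] at h1
    exact h1
  have hπmul : ∀ a b : N, π (a * b) = π a * π b := by
    intro a b
    refine huniq _ _ (mul_mem (hπH a) (hπH b)) ?_
    have := mul_mem (hπX a) (Subgroup.Normal.conj_mem ‹X.Normal› _ (hπX b) (π a))
    have e : ((a * b : N) : G) * (π a * π b)⁻¹ =
        (a : G) * (π a)⁻¹ * (π a * ((b : G) * (π b)⁻¹) * (π a)⁻¹) := by push_cast; group
    rwa [e]
  let xp : N → X := fun n => ⟨(n : G) * (π n)⁻¹, hπX n⟩
  have hinv : ∀ t : T, ∀ z : X, φ ⟨π t * z * (π t)⁻¹, Subgroup.Normal.conj_mem ‹X.Normal› _ z.2 _⟩ = φ z := by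
    intro t z
    have ht : ((t : N) : G) ∈ inertia X fun n => (φ n : ℂ) := by
      have h : (t : N) ∈ inertia (X.subgroupOf N) (down X N fun n => (φ n : ℂ)) := t.2
      rw [inertia_down hXN] at h
      exact Subgroup.mem_subgroupOf.mp h
    have hmem : ((t : N) : G) * (π (t : N))⁻¹ ∈ inertia X fun n => (φ n : ℂ) :=
      le_inertia X (isClassFunction_irr hθ) (hπX t)
    have hp : π t ∈ inertia X fun n => (φ n : ℂ) := by
      have := mul_mem (inv_mem hmem) ht
      simpa [mul_assoc] using this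
    exact Units.ext (congrFun ((mem_inertia X).mp hp) z)
  let η : T →* ℂˣ := MonoidHom.mk' (fun t => φ (xp t)) fun a b => by
    have e : xp ((a * b : T) : N) = xp a * ⟨π a * (xp b : G) * (π a)⁻¹,
        Subgroup.Normal.conj_mem ‹X.Normal› _ (xp b).2 _⟩ := by
      refine Subtype.ext ?_
      show ((a : N) : G) * ((b : N) : G) * (π ((a * b : T) : N))⁻¹ = _
      rw [show ((a * b : T) : N) = (a : N) * b from rfl, hπmul]
      simp only [Subgroup.coe_mul, xp]
      group
    show φ (xp ((a * b : T) : N)) = φ (xp a) * φ (xp b)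
    rw [e, map_mul, hinv]
  haveI := Fintype.ofFinite G
  obtain ⟨χ, hχ, hd⟩ := exists_over_ext hXN hθ (isCharacter_of_irr (Palfy.isIrr_hom η))
    (le_inertia _ (isClassFunction_irr (isIrr_subgroupOf X hXN hθ))) fun n => by
    show (φ (xp (n : N)) : ℂ) = φ ⟨((n : N) : G), _⟩
    congr 2
    refine Subtype.ext ?_
    have h1 : π (n : N) = 1 := huniq _ 1 (one_mem H) (by simpa using Subgroup.mem_subgroupOf.mp n.2)
    show ((n : N) : G) * (π (n : N))⁻¹ = _
    rw [h1, inv_one, mul_one]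
  rw [show charDegree (fun n => (φ n : ℂ)) = 1 from by simp [charDegree], mul_one] at hd
  refine hd ▸ (hgood χ hχ fun h1 => hne ?_).2
  rw [← hd, charDegree_eq_one_iff hχ]
  exact h1

/-- Every `N`-orbit of characters of `X` is `G`-invariant. -/
theorem orbit_invariant {X H N : Subgroup G} [X.Normal] [N.Normal] (hN : X ⊔ H = N) (hlin : ∀ w ∈ X, w ∈ ⁅N, N⁆)
    {A : Set ℕ} (hgood : Good N A) {ψ : X → ℂ} (hψ : IsIrrCharacter X ψ) (k : G) :
    ∃ h ∈ H, conjNormFun X k ψ = conjNormFun X h ψ := by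
  classical
  by_cases h1 : ψ = fun _ => 1
  · subst h1
    exact ⟨1, one_mem _, rfl⟩
  have hXN : X ≤ N := hN ▸ le_sup_left
  haveI := Fintype.ofFinite G
  haveI := Fintype.ofFinite N
  haveI := Fintype.ofFinite X
  haveI := Fintype.ofFinite (X.subgroupOf N)
  have hψ' : IsIrrCharacter _ (down X N ψ) := isIrr_subgroupOf X hXN hψ
  obtain ⟨χ, hχ, hc⟩ := exists_irr_above hψ'
  have hne : χ 1 ≠ 1 := fun e => h1 <| by
    obtain ⟨φ, hφ⟩ := exists_hom_of_degree_one (isCharacter_of_irr hχ) e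
    have hres : (fun n : X.subgroupOf N => χ n) = fun _ => (1 : ℂ) := by
      funext x
      have hx : (x : N) ∈ commutator N :=
        (Pair.mem_commutator_iff N _).mp (hlin _ (Subgroup.mem_subgroupOf.mp x.2))
      rw [hφ]
      show ((φ (x : N) : ℂˣ) : ℂ) = 1
      rw [show φ (x : N) = 1 from MonoidHom.mem_ker.mp (Abelianization.commutator_subset_ker φ hx), Units.val_one]
    rw [hres] at hc
    funext w
    exact congrFun (constituent_trivial hψ' hc) ⟨⟨w, hXN w.2⟩, Subgroup.mem_subgroupOf.mpr w.2⟩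
  have hinv := (hgood χ hχ hne).1 k
  have hψk := isIrr_conjNormFun X k hψ
  have hψk' : IsIrrCharacter _ (down X N (conjNormFun X k ψ)) := isIrr_subgroupOf X hXN hψk
  have hck : classInner (fun n : X.subgroupOf N => χ n) (down X N (conjNormFun X k ψ)) ≠ 0 := by
    have hres : (fun x : X => χ ⟨x, hXN x.2⟩) = conjNormFun X k (fun x : X => χ ⟨x, hXN x.2⟩) :=
      funext fun x => (congrFun hinv ⟨x, hXN x.2⟩).symm
    show classInner (fun x : X.subgroupOf N => χ x)
      (fun x => conjNormFun X k ψ ⟨(x : N), Subgroup.mem_subgroupOf.mp x.2⟩) ≠ 0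
    rw [classInner_subgroupOf X hXN χ, hres, classInner_conjNormFun]
    rwa [show classInner (fun n : X.subgroupOf N => χ n) (down X N ψ) =
      classInner (fun n : X => χ ⟨n, hXN n.2⟩) ψ from classInner_subgroupOf X hXN χ ψ] at hc
  obtain ⟨n, hn⟩ := exists_conj_of_constituents (X.subgroupOf N) hχ hψ' hψk' hc hck
  have hnG : conjNormFun X k ψ = conjNormFun X (n : G) ψ := funext fun x =>
    (congrFun hn ⟨⟨x, hXN x.2⟩, Subgroup.mem_subgroupOf.mpr x.2⟩).symm
  have hn' : (n : G) ∈ X ⊔ H := by rw [hN]; exact n.2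
  obtain ⟨x, hx, h, hh, e⟩ := Subgroup.mem_sup_of_normal_left.mp hn'
  refine ⟨h, hh, ?_⟩
  rw [hnG, ← e, conjNormFun_mul, conjNormFun_of_mem X hx (isClassFunction_irr hψ)]

/-- Elements moved modulo the derived group of `N` have small centralizers. -/
theorem card_centralizer_moved {N : Subgroup G} [N.Normal] {A : Set ℕ} (hgood : Good N A) {x : G}
    (hx : x ∈ N) (hmove : ∃ k : G, k * x * k⁻¹ * x⁻¹ ∉ ⁅N, N⁆) :
    Nat.card (N ⊓ Subgroup.centralizer ({x} : Set G) : Subgroup G) = ⁅N, N⁆.relIndex N := by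
  obtain ⟨k, hk⟩ := hmove
  have h1 := card_centralizer_of_moved (MulAut.conjNormal k : N ≃* N)
    (fun χ h1 g => by
      have h2 := congrFun ((hgood χ χ.2 h1).1 k) g
      rw [conjNormFun_eq] at h2
      exact h2)
    (x := ⟨x, hx⟩) fun h => hk ((Pair.mem_commutator_iff N _).mpr h)
  have e1 : ⁅N, N⁆.relIndex N = (commutator N).index := by
    rw [Subgroup.relIndex]
    congr 1
    ext n
    rw [Subgroup.mem_subgroupOf, Pair.mem_commutator_iff]
  rw [e1, ← h1]
  refine Nat.card_congr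
    { toFun := fun a => ⟨⟨a, a.2.1⟩, Subgroup.mem_centralizer_singleton_iff.mpr
        (Subtype.ext (Subgroup.mem_centralizer_singleton_iff.mp a.2.2))⟩
      invFun := fun a => ⟨(a : N), a.1.2, Subgroup.mem_centralizer_singleton_iff.mpr
        (congrArg Subtype.val (Subgroup.mem_centralizer_singleton_iff.mp a.2) :)⟩
      left_inv := fun a => rfl
      right_inv := fun a => rfl }

/-- With a nonabelian normal complement, the Sylow factor is abelian. -/
theorem commutator_le_complement {M : Type u} [Group M] [Finite M] {q : ℕ} [Fact q.Prime] (W : Subgroup M)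
    [W.Normal] (hcop : (Nat.card W).Coprime W.index) (hidx : ∃ k, W.index = q ^ k)
    (hW : ∃ a b : W, a * b ≠ b * a)
    (hanti : ∀ χ ψ : IrrCharacter M, 1 < charDegree (χ : M → ℂ) →
      charDegree (χ : M → ℂ) ∣ charDegree (ψ : M → ℂ) → charDegree (χ : M → ℂ) = charDegree (ψ : M → ℂ)) :
    commutator M ≤ W := by
  classical
  haveI := Fintype.ofFinite M
  haveI := Fintype.ofFinite W
  by_contra hle
  -- a nonlinear character of the quotient
  obtain ⟨β₀, hβ₀⟩ : ∃ β : IrrCharacter (M ⧸ W), (β : M ⧸ W → ℂ) 1 ≠ 1 := by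
    by_contra hc
    push Not at hc
    refine hle ?_
    rw [commutator_def, Subgroup.commutator_le]
    intro a _ b _
    rw [← QuotientGroup.eq_one_iff]
    show (QuotientGroup.mk' W) ⁅a, b⁆ = 1
    rw [map_commutatorElement]
    exact commutatorElement_eq_one_iff_mul_comm.mpr (commutative_iff_degree_one.mpr hc _ _)
  set d := charDegree (β₀ : M ⧸ W → ℂ) with hd
  have hd1 : 1 < d := by
    rcases Nat.lt_or_ge 1 d with h | h
    · exact h
    · exact absurd ((charDegree_eq_one_iff β₀.2).mp (le_antisymm h (charDegree_spec' β₀.2).2)) hβ₀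
  obtain ⟨ψ₀, hψ₀⟩ : ∃ θ : IrrCharacter W, (θ : W → ℂ) 1 ≠ 1 := by
    by_contra hc
    push Not at hc
    obtain ⟨a, b, hab⟩ := hW
    exact hab (commutative_iff_degree_one.mpr hc a b)
  set θ : W → ℂ := (ψ₀ : W → ℂ) with hθdef
  have hθ : IsIrrCharacter W θ := ψ₀.2
  have hθ1 : 1 < charDegree θ := by
    rcases Nat.lt_or_ge 1 (charDegree θ) with h | h
    · exact h
    · exact absurd ((charDegree_eq_one_iff hθ).mp (le_antisymm h (charDegree_spec' hθ).2)) hψ₀
  set T := inertia W θ with hT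
  have hWT : W ≤ T := le_inertia W (isClassFunction_irr hθ)
  haveI := Fintype.ofFinite T
  haveI := Fintype.ofFinite (W.subgroupOf T)
  have hco : (Nat.card (W.subgroupOf T)).Coprime (W.subgroupOf T).index := by
    rw [Nat.card_congr (Subgroup.subgroupOfEquivOfLe hWT).toEquiv]
    exact hcop.coprime_dvd_right (Subgroup.relIndex_dvd_index_of_le hWT)
  obtain ⟨η, hη, hext⟩ := PrimeSep.exists_extension_coprime (W.subgroupOf T) hco
    ⟨_, isIrr_subgroupOf W hWT hθ⟩ fun t => funext fun x => by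
      exact congrFun ((mem_inertia W).mp t.2) ⟨((x : T) : M), Subgroup.mem_subgroupOf.mp x.2⟩
  have hover : ∀ β : IrrCharacter (T ⧸ W.subgroupOf T), ∃ χ : IrrCharacter M,
      charDegree (χ : M → ℂ) = T.index * (charDegree (β : T ⧸ W.subgroupOf T → ℂ) * charDegree θ) := by
    intro β
    obtain ⟨χ, hχ, -, hdχ⟩ := Palfy.degrees_over hθ hWT rfl (isCharacter_of_irr hη)
      (fun n => hext ⟨⟨n, hWT n.2⟩, Subgroup.mem_subgroupOf.mpr n.2⟩) β.2
    exact ⟨⟨χ, hχ⟩, hdχ⟩
  obtain ⟨χ₁, hχ₁⟩ := hover ⟨fun _ => 1, isIrrCharacter_one⟩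
  rw [show charDegree (fun _ : T ⧸ W.subgroupOf T => (1 : ℂ)) = 1 from by simp [charDegree], one_mul] at hχ₁
  have hTi : 0 < T.index := Nat.pos_of_ne_zero Subgroup.index_ne_zero_of_finite
  have hlin : ∀ β : IrrCharacter (T ⧸ W.subgroupOf T), (β : T ⧸ W.subgroupOf T → ℂ) 1 = 1 := by
    intro β
    obtain ⟨χ, hχ⟩ := hover β
    have h1 : 1 < charDegree (χ₁ : M → ℂ) := by rw [hχ₁]; nlinarith
    have h2 := hanti χ₁ χ h1 (by
      rw [hχ₁, hχ]; exact mul_dvd_mul_left _ (dvd_mul_left _ _))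
    rw [hχ₁, hχ] at h2
    have h3 := Nat.eq_of_mul_eq_mul_left hTi h2
    exact (charDegree_eq_one_iff β.2).mp ((mul_eq_right₀ (by omega)).mp h3.symm)
  have hTab : ∀ a b : T, ⁅(a : M), (b : M)⁆ ∈ W := by
    intro a b
    have h1 := commutative_iff_degree_one.mpr hlin (a : T ⧸ W.subgroupOf T) (b : T ⧸ W.subgroupOf T)
    rw [← QuotientGroup.mk_mul, ← QuotientGroup.mk_mul, QuotientGroup.eq, Subgroup.mem_subgroupOf] at h1
    have h2 := Subgroup.Normal.conj_mem ‹W.Normal› _ (inv_mem h1) ((b : M) * (a : M))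
    simpa [commutatorElement_def, mul_assoc] using h2
  set A := T.map (QuotientGroup.mk' W) with hA
  have hAab : ∀ a ∈ A, ∀ b ∈ A, a * b = b * a := by
    rintro _ ⟨a, ha, rfl⟩ _ ⟨b, hb, rfl⟩
    rw [← commutatorElement_eq_one_iff_mul_comm, ← map_commutatorElement]
    exact (QuotientGroup.eq_one_iff _).mpr (hTab ⟨a, ha⟩ ⟨b, hb⟩)
  have hAidx : A.index = T.index := by
    rw [hA, ← Subgroup.index_comap_of_surjective _ (QuotientGroup.mk'_surjective W),
      Subgroup.comap_map_eq, QuotientGroup.ker_mk', sup_eq_left.mpr hWT]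
  obtain ⟨n, ρ, hρ, hρβ⟩ := id β₀.2
  have hdim : Module.finrank ℂ (Fin n → ℂ) = d := by
    have h1 := (charDegree_spec' β₀.2).1
    rw [← hρβ, ρ.char_one, Nat.cast_inj] at h1
    rw [h1, hd, hρβ]
  have hdle : d ≤ T.index := hdim ▸ hAidx ▸ degree_le_index_of_abelian ρ A hAab
  obtain ⟨k, hk⟩ := hidx
  have hq : q.Prime := Fact.out
  obtain ⟨i, -, hi⟩ := (Nat.dvd_prime_pow hq).mp (show d ∣ q ^ k by
    rw [← hk, Subgroup.index_eq_card]
    exact hdim ▸ finrank_dvd_card ρ)
  obtain ⟨j, -, hj⟩ := (Nat.dvd_prime_pow hq).mp (show T.index ∣ q ^ k from hk ▸ Subgroup.index_dvd_of_le hWT)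
  have hdT : d ∣ T.index := by
    rw [hi, hj] at hdle ⊢
    exact pow_dvd_pow q ((Nat.pow_le_pow_iff_right hq.one_lt).mp hdle)
  let β₁ : IrrCharacter M := ⟨_, isIrrCharacter_comp_surjective β₀.2 (QuotientGroup.mk' W)
    (QuotientGroup.mk'_surjective W)⟩
  have hβ₁ : charDegree (β₁ : M → ℂ) = d := PrimeSep.charDegree_comp (QuotientGroup.mk' W) _
  have h2 := hanti β₁ χ₁ (hβ₁.symm ▸ hd1) (by rw [hβ₁, hχ₁]; exact hdT.mul_right _)
  rw [hβ₁, hχ₁] at h2
  nlinarith

end CfsgLib.NoDivPair
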