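import Cfsg.Agent.Lib.NoDivPair.Bridge

/-!
The Sylow factor centralizes the abelianization of the nonabelian complement: the derived group of `N` is
the derived group of `W`.
-/

set_option autoImplicit false
set_option linter.unusedSectionVars false

namespace CfsgLib.NoDivPair

open Cfsg CfsgLib CfsgLib.CharTheory
open scoped commutatorElement

universe u


variable {G : Type u} [Group G] [Finite G]

/-- A coprime automorphism translating a point by a fixed point fixes it. -/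
theorem eq_one_of_coprime_translate {M : Type u} [CommGroup M] [Finite M] (act : G →* MulAut M) {h : G} {z m : M}
    (hz : act h z = z) (e : act h m = m * z) (hco : (orderOf h).Coprime (Nat.card M)) : z = 1 := by
  have hit : ∀ n : ℕ, act (h ^ n) m = m * z ^ n := by
    intro n
    induction n with
    | zero => rw [pow_zero, map_one, pow_zero, mul_one]; rfl
    | succ n ih =>
      rw [pow_succ', map_mul, MulAut.mul_apply, ih, map_mul, e, map_pow, hz, pow_succ', mul_assoc]
  have h2 := hit (orderOf h)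
  rw [pow_orderOf_eq_one, map_one, MulAut.one_apply] at h2
  exact orderOf_eq_one_iff.mp (Nat.eq_one_of_dvd_coprimes hco
    (orderOf_dvd_of_pow_eq_one (left_eq_mul.mp h2)) (orderOf_dvd_natCard z))

/-- An element centralized by `g` and moving some point makes `g` trivial on the acting `q`-group. -/
theorem trivial_mod_fixed {M : Type u} [CommGroup M] [Finite M] (act : G →* MulAut M) {q : ℕ} [Fact q.Prime]
    {Q : Subgroup G} (hQp : IsPGroup q Q) (hQab : ∀ a ∈ Q, ∀ b ∈ Q, a * b = b * a) {g : G}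
    (hgR : g ∈ Subgroup.normalizer (Q : Set G)) (hgq : (orderOf g).Coprime q)
    (hcop : ∀ z : M, Q ≤ Palfy.stab act z → ∀ h ∈ Q, ∀ m : M, act h m = m * z → z = 1)
    (hsemi : ∀ b ∈ Q, ∀ m : M, ¬ Q ≤ Palfy.stab act m → act b m = m → ∀ m' : M, act b m' = m')
    (a : G) (ha : a ∈ Q) (hga : g * a = a * g) (m₀ : M) (hm₀ : ¬ Q ≤ Palfy.stab act m₀) (ham : act a m₀ ≠ m₀)
    (y : G) (hy : y ∈ Q) : ∀ m : M, act (g * y * g⁻¹ * y⁻¹) m = m := by
  set R := Subgroup.normalizer (Q : Set G)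
  let F : Subgroup M := Palfy.fixC act Q
  haveI : F.Normal := Subgroup.normal_of_isMulCommutative F
  have hFmap : ∀ k : R, F.map (act (k : G)).toMonoidHom = F := by
    intro k
    refine Subgroup.eq_of_le_of_card_ge ?_ (le_of_eq (Nat.card_congr
      (Subgroup.equivMapOfInjective F _ (act (k : G)).injective).toEquiv))
    rintro _ ⟨φ, hφ, rfl⟩ b hb
    have h2 : (k : G)⁻¹ * b * k ∈ Q := (Subgroup.mem_normalizer_iff''.mp k.2 b).mp hb
    show act b (act (k : G) φ) = act (k : G) φ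
    rw [← MulAut.mul_apply, ← map_mul, show b * (k : G) = k * ((k : G)⁻¹ * b * k) by group, map_mul,
      MulAut.mul_apply, (hφ h2 : act _ φ = φ)]
  let act2 : R →* MulAut (M ⧸ F) :=
    { toFun := fun k => QuotientGroup.congr F F (act (k : G)) (hFmap k)
      map_one' := MulEquiv.ext fun c => by
        obtain ⟨φ, rfl⟩ := QuotientGroup.mk_surjective c
        show ((act ((1 : R) : G) φ : M) : M ⧸ F) = φ
        rw [Subgroup.coe_one, map_one]; rfl
      map_mul' := fun k l => MulEquiv.ext fun c => by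
        obtain ⟨φ, rfl⟩ := QuotientGroup.mk_surjective c
        show ((act ((k * l : R) : G) φ : M) : M ⧸ F) = ((act (k : G) (act (l : G) φ) : M) : M ⧸ F)
        rw [Subgroup.coe_mul, map_mul]; rfl }
  have hQR : Q ≤ R := Subgroup.le_normalizer
  have hfixed : ∀ b ∈ Q, ∀ φ : M, (act b φ : M ⧸ F) = φ → act b φ = φ := by
    intro b hb φ e
    have h2 : φ⁻¹ * act b φ ∈ F := QuotientGroup.eq.mp e.symm
    exact (inv_mul_eq_one.mp (hcop _ h2 b hb φ (mul_inv_cancel_left _ _).symm)).symm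
  haveI : Nontrivial (M ⧸ F) := ⟨⟨(m₀ : M ⧸ F), 1, fun e => hm₀ ((QuotientGroup.eq_one_iff m₀).mp e)⟩⟩
  have h1 := commutator_acts_trivially (M := M ⧸ F) act2
    (hQp.of_injective (Subgroup.subgroupOfEquivOfLe hQR).toMonoidHom (Subgroup.subgroupOfEquivOfLe hQR).injective :
      IsPGroup q (Q.subgroupOf R))
    (fun a ha b hb => Subtype.ext (hQab a ha b hb))
    (g := ⟨g, hgR⟩) (fun b hb => (Subgroup.mem_normalizer_iff.mp hgR b).mp hb)
    (by rw [Subgroup.orderOf_mk]; exact hgq)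
    (fun b hb hne c hc => by
      obtain ⟨φ, rfl⟩ := QuotientGroup.mk_surjective c
      by_contra hφ
      refine hne (MulEquiv.ext fun c' => ?_)
      obtain ⟨φ', rfl⟩ := QuotientGroup.mk_surjective c'
      have hb1 := hsemi b hb φ (fun h => hφ ((QuotientGroup.eq_one_iff φ).mpr h)) (hfixed b hb φ hc) φ'
      show ((act (b : G) φ' : M) : M ⧸ F) = φ'
      rw [hb1])
    (z := ⟨a, hQR ha⟩) ha (Subtype.ext hga)
    (fun e => ham (hfixed a ha m₀ (DFunLike.congr_fun e (m₀ : M ⧸ F))))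
    (a := ⟨y, hQR hy⟩) hy
  intro m
  exact hfixed _ (mul_mem ((Subgroup.mem_normalizer_iff.mp hgR y).mp hy) (inv_mem hy)) m
    (DFunLike.congr_fun h1 (m : M ⧸ F))

set_option maxHeartbeats 800000 in
theorem derived_eq [Group.IsSolvable G] (N W Q : Subgroup G) [N.Normal] [W.Normal] {q r : ℕ} (hq : q.Prime)
    (hWN : W ≤ N) (hQN : Q ≤ N) (hWQ : W ⊔ Q = N) (hQp : IsPGroup q Q) (hQab : ∀ a ∈ Q, ∀ b ∈ Q, a * b = b * a)
    (hcopQW : (Nat.card Q).Coprime (Nat.card W)) (hqW : ¬ q ∣ Nat.card W) (hXW : ⁅N, N⁆ ≤ W)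
    (hWab : ∃ a b : W, a * b ≠ b * a) {A : Set ℕ} (hanti : Anti A)
    (hdegW : ∀ φ : W → ℂ, IsIrrCharacter W φ → (inertia W φ).relIndex Q * charDegree φ ≠ 1 →
      (inertia W φ).relIndex Q * charDegree φ ∈ A)
    (hCW : ∀ a ∈ Q, (∃ k : G, k * a * k⁻¹ * a⁻¹ ∉ ⁅N, N⁆) →
      Nat.card (W ⊓ Subgroup.centralizer ({a} : Set G) : Subgroup G) ∣ ⁅N, N⁆.relIndex W)
    {g y : G} (hr : r.Prime) (hrq : r ≠ q) {e : ℕ} (hgord : orderOf g = r ^ e)
    (hgR : g ∈ Subgroup.normalizer (Q : Set G)) (hyQ : y ∈ Q) (hxQ : g * y * g⁻¹ * y⁻¹ ∈ Q)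
    (hxmove : ∃ k : G, k * (g * y * g⁻¹ * y⁻¹) * k⁻¹ * (g * y * g⁻¹ * y⁻¹)⁻¹ ∉ ⁅N, N⁆) :
    ⁅N, N⁆ = ⁅W, W⁆ := by
  classical
  haveI := Fact.mk hq
  haveI := Fintype.ofFinite G
  have hWn : W.Normal := inferInstance
  set X : Subgroup G := ⁅N, N⁆ with hXdef
  haveI hXn : X.Normal := Subgroup.commutator_normal N N
  set x := g * y * g⁻¹ * y⁻¹ with hxdef
  set w₁ := X.relIndex W with hw₁
  have hWQbot : W ⊓ Q = ⊥ := disjoint_iff.mp (Subgroup.disjoint_of_coprime_natCard hcopQW.symm)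
  have hXQ : ∀ a ∈ Q, a ∈ X → a = 1 := fun a ha hx => Subgroup.mem_bot.mp (hWQbot ▸ ⟨hXW hx, ha⟩)
  refine le_antisymm ?_ (Subgroup.commutator_mono hWN hWN)
  set U := ⁅W, W⁆ with hU
  haveI : U.Normal := Subgroup.commutator_normal W W
  suffices hQW : ∀ a ∈ Q, ∀ w ∈ W, a * w * a⁻¹ * w⁻¹ ∈ U by
    have hab : ∀ a ∈ N, ∀ b ∈ N, ⁅a, b⁆ ∈ U := by
      set π := QuotientGroup.mk' U
      have hπ : ∀ z : G, π z = 1 ↔ z ∈ U := fun z => QuotientGroup.eq_one_iff z
      have hle : N.map π ≤ Subgroup.centralizer (N.map π : Set (G ⧸ U)) := by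
        rw [← hWQ, Subgroup.map_sup]
        refine sup_le ?_ ?_ <;> rintro _ ⟨a, ha, rfl⟩ <;>
          rw [← Subgroup.map_sup] <;> refine Subgroup.mem_centralizer_iff.mpr ?_ <;>
          rintro _ ⟨b, hb, rfl⟩
        all_goals
          rw [SetLike.mem_coe, sup_comm] at hb
          obtain ⟨c, hc, d, hd, rfl⟩ := Subgroup.mem_sup_of_normal_right.mp hb
          have key : ∀ z, ⁅z, a⁆ ∈ U → Commute (π z) (π a) := fun z hz => by
            rw [commute_iff_eq, ← commutatorElement_eq_one_iff_mul_comm, ← map_commutatorElement, hπ]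
            exact hz
          rw [map_mul]
          refine (Commute.mul_left (key c ?_) (key d ?_)).eq
        · rw [commutatorElement_def]; exact hQW c hc a ha
        · exact Subgroup.commutator_mem_commutator hd ha
        · rw [commutatorElement_eq_one_iff_mul_comm.mpr (hQab c hc a ha)]; exact one_mem U
        · rw [← commutatorElement_inv, commutatorElement_def]; exact inv_mem (hQW a ha d hd)
      intro a ha b hb
      rw [← hπ, map_commutatorElement, commutatorElement_eq_one_iff_mul_comm]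
      exact (Subgroup.mem_centralizer_iff.mp (hle ⟨a, ha, rfl⟩) _ ⟨b, hb, rfl⟩).symm
    exact Subgroup.commutator_le.mpr hab
  by_contra hnot
  -- some linear character of `W` is moved by `Q`
  set R := Subgroup.normalizer (Q : Set G) with hR
  have hmovedW : ∃ φ : W →* ℂˣ, ¬ Q ≤ Palfy.stab (Palfy.dualAct W) φ := by
    push Not at hnot
    obtain ⟨a, ha, w, hw, hn⟩ := hnot
    let z : W := ⟨a * w * a⁻¹ * w⁻¹, mul_mem (hWn.conj_mem w hw a) (inv_mem hw)⟩
    obtain ⟨φ, hφ⟩ := Palfy.exists_hom_ne_one' (a := z) fun h => hn ((Pair.mem_commutator_iff W z).mpr h)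
    refine ⟨φ, fun hle => hφ ?_⟩
    have h2 : Palfy.dualAct W a⁻¹ φ ⟨w, hw⟩ = φ ⟨w, hw⟩ :=
      DFunLike.congr_fun (hle (inv_mem ha) : Palfy.dualAct W a⁻¹ φ = φ) _
    rw [Palfy.dualAct_apply] at h2
    rw [show z = (⟨a⁻¹⁻¹ * w * a⁻¹, by simpa using hWn.conj_mem w hw a⟩ : W) * ⟨w, hw⟩⁻¹ from
      Subtype.ext (by simp [z]), map_mul, map_inv, h2, mul_inv_cancel]
  obtain ⟨φ₀, hφ₀⟩ := hmovedW
  have hcop : ∀ z : W →* ℂˣ, Q ≤ Palfy.stab (Palfy.dualAct W) z → ∀ h ∈ Q, ∀ m : W →* ℂˣ, (Palfy.dualAct W) h m = m * z → z = 1 := by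
    intro z hz h hh m e
    have key := @eq_one_of_coprime_translate G _ _ (W →* ℂˣ) _ _ (Palfy.dualAct W) h z m
    refine key (hz hh) e ?_
    rw [card_linear_hom]
    refine Nat.Coprime.coprime_dvd_right (Subgroup.index_dvd_card _) (hcopQW.coprime_dvd_left ?_)
    rw [← Subgroup.orderOf_mk h hh]
    exact orderOf_dvd_natCard _
  have hinA : ∀ φ : W →* ℂˣ, ¬ Q ≤ Palfy.stab (Palfy.dualAct W) φ → (Palfy.stab (Palfy.dualAct W) φ).relIndex Q ∈ A := by
    intro φ hφ
    have h2 := hdegW _ (Palfy.isIrr_hom φ)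
    rw [show charDegree (fun n => (φ n : ℂ)) = 1 from by simp [charDegree], mul_one,
      ← Palfy.stab_eq_inertia] at h2
    exact h2 fun e => hφ (Subgroup.relIndex_eq_one.mp e)
  have hanti' : ∀ m n : W →* ℂˣ, ¬ Q ≤ Palfy.stab (Palfy.dualAct W) m → ¬ Q ≤ Palfy.stab (Palfy.dualAct W) n →
      (Palfy.stab (Palfy.dualAct W) m).relIndex Q ∣ (Palfy.stab (Palfy.dualAct W) n).relIndex Q →
      (Palfy.stab (Palfy.dualAct W) m).relIndex Q = (Palfy.stab (Palfy.dualAct W) n).relIndex Q :=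
    fun m n hm hn hd => hanti _ (hinA m hm) _ (hinA n hn) hd
  have hstab := @stab_eq_of_antichain G _ _ (W →* ℂˣ) _ _ (Palfy.dualAct W) Q hQab hcop hanti'
  set S := Palfy.stab (Palfy.dualAct W) φ₀ ⊓ Q with hS
  have hSfix : ∀ s ∈ S, ∀ φ : W →* ℂˣ, (Palfy.dualAct W) s φ = φ := by
    intro s hs φ
    by_cases h : Q ≤ Palfy.stab (Palfy.dualAct W) φ
    · exact h hs.2
    · exact (show s ∈ Palfy.stab (Palfy.dualAct W) φ ⊓ Q from hstab hφ₀ h ▸ hs).1
  have hm₀ : S.relIndex Q ∈ A := by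
    rw [hS, Subgroup.inf_relIndex_right]; exact hinA φ₀ hφ₀
  -- every element of `Q` outside `S` is moved
  have hmoved : ∀ a ∈ Q, a ∉ S → ∃ k : G, k * a * k⁻¹ * a⁻¹ ∉ X := by
    intro a ha haS
    refine ⟨g, fun h => ?_⟩
    have hga : g * a = a * g := by
      have h2 := hXQ _ (mul_mem ((Subgroup.mem_normalizer_iff.mp hgR a).mp ha) (inv_mem ha)) h
      exact mul_inv_eq_iff_eq_mul.mp (mul_inv_eq_one.mp h2)
    -- then `g` is trivial on `Q / S`
    have hsemi : ∀ b ∈ Q, ∀ m : W →* ℂˣ, ¬ Q ≤ Palfy.stab (Palfy.dualAct W) m → Palfy.dualAct W b m = m →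
        ∀ m' : W →* ℂˣ, Palfy.dualAct W b m' = m' := fun b hb m hm hbm m' =>
      hSfix b (by rw [hS, hstab hφ₀ hm]; exact ⟨hbm, hb⟩) m'
    have hgq : (orderOf g).Coprime q := by
      rw [hgord]
      exact Nat.Coprime.pow_left _ ((Nat.coprime_primes hr hq).mpr hrq)
    have key := @trivial_mod_fixed G _ _ (W →* ℂˣ) _ _ (Palfy.dualAct W) q _ Q hQp hQab g hgR hgq hcop hsemi
    have hxfix : ∀ φ : W →* ℂˣ, Palfy.dualAct W x φ = φ :=
      key a ha hga φ₀ hφ₀ (fun e => haS ⟨e, ha⟩) y hyQ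
    have hxW : ∀ w ∈ W, x * w * x⁻¹ * w⁻¹ ∈ U := by
      intro w hw
      let z : W := ⟨x * w * x⁻¹ * w⁻¹, mul_mem (hWn.conj_mem w hw x) (inv_mem hw)⟩
      by_contra hn
      obtain ⟨φ, hφ⟩ := Palfy.exists_hom_ne_one' (a := z) fun h => hn ((Pair.mem_commutator_iff W z).mpr h)
      refine hφ ?_
      have hi : (Palfy.dualAct W) x⁻¹ φ = φ := by
        rw [map_inv]; exact ((Palfy.dualAct W) x).symm_apply_eq.mpr (hxfix φ).symm
      have h2 : Palfy.dualAct W x⁻¹ φ ⟨w, hw⟩ = φ ⟨w, hw⟩ := DFunLike.congr_fun hi _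
      rw [Palfy.dualAct_apply] at h2
      rw [show z = (⟨x⁻¹⁻¹ * w * x⁻¹, by simpa using hWn.conj_mem w hw x⟩ : W) * ⟨w, hw⟩⁻¹ from
        Subtype.ext (by simp [z]), map_mul, map_inv, h2, mul_inv_cancel]
    -- `C_W(x)` maps onto `W / W'`
    set Cx := W ⊓ Subgroup.centralizer ({x} : Set G)
    have hxU : U.relIndex W ≤ Nat.card Cx := by
      rw [Subgroup.relIndex, Subgroup.index_eq_card]
      refine Nat.card_le_card_of_surjective
        (fun c : Cx => ((⟨(c : G), c.2.1⟩ : W) : W ⧸ U.subgroupOf W)) fun w => ?_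
      obtain ⟨w, rfl⟩ := QuotientGroup.mk_surjective w
      have hcopx : (Nat.card (Subgroup.zpowers x)).Coprime (Nat.card W) :=
        hcopQW.coprime_dvd_left (Subgroup.card_dvd_of_le (Subgroup.zpowers_le.mpr hxQ))
      have hUn : ∀ H' : Subgroup G, H' ≤ Subgroup.normalizer (U : Set G) := fun H' => by
        rw [Subgroup.normalizer_eq_top]; exact le_top
      obtain ⟨c, ⟨hcW, hc⟩, hwc⟩ := coprime_fixed_quotient (A := Subgroup.zpowers x) (K := W) (N := U)
        (by rw [Subgroup.normalizer_eq_top]; exact le_top) hcopx (Or.inr inferInstance)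
        (Subgroup.commutator_le_self W) (hUn W) (hUn _) w.2
        (fun a ha => by
          obtain ⟨i, rfl⟩ := ha
          have hc' : Commute (QuotientGroup.mk' U x) (QuotientGroup.mk' U (w : G)) := by
            rw [commute_iff_eq, ← map_mul, ← map_mul]
            refine QuotientGroup.eq.mpr ?_
            have := Subgroup.Normal.conj_mem ‹U.Normal› _ (inv_mem (hxW w w.2)) ((w : G) * x)⁻¹
            simpa [mul_assoc] using this
          refine (QuotientGroup.eq_one_iff _).mp ?_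
          show QuotientGroup.mk' U (x ^ i * (w : G) * (x ^ i)⁻¹ * (w : G)⁻¹) = 1
          rw [map_mul, map_mul, map_mul, map_inv, map_inv, map_zpow, (hc'.zpow_left i).eq, mul_inv_cancel_right,
            mul_inv_cancel])
      refine ⟨⟨c, hcW, Subgroup.mem_centralizer_singleton_iff.mpr
        (Subgroup.mem_centralizer_iff.mp hc x (Subgroup.mem_zpowers x)).symm⟩, ?_⟩
      refine (QuotientGroup.eq.mpr ?_).symm
      exact Subgroup.mem_subgroupOf.mpr hwc
    have h4 : U.relIndex W ≤ X.relIndex W :=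
      hxU.trans (Nat.le_of_dvd (Nat.pos_of_ne_zero Subgroup.index_ne_zero_of_finite) (hCW x hxQ hxmove))
    have hUX : U ≤ X := Subgroup.commutator_mono hWN hWN
    have h5 := Subgroup.relIndex_mul_relIndex _ _ _ hUX hXW
    have hpos : 0 < X.relIndex W := Nat.pos_of_ne_zero Subgroup.index_ne_zero_of_finite
    have hpos' : 0 < U.relIndex X := Nat.pos_of_ne_zero Subgroup.index_ne_zero_of_finite
    have h6 : U.relIndex X = 1 := by nlinarith
    refine hnot fun b hb w hw => Subgroup.relIndex_eq_one.mp h6 ?_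
    rw [← commutatorElement_def]
    exact Subgroup.commutator_mem_commutator (hQN hb) (hWN hw)
  -- a nonlinear character of `W` gives a forbidden degree
  obtain ⟨ψ, hψ⟩ : ∃ ψ : IrrCharacter W, (ψ : W → ℂ) 1 ≠ 1 := by
    by_contra hc
    push Not at hc
    obtain ⟨a, b, hab⟩ := hWab
    exact hab (commutative_iff_degree_one.mpr hc a b)
  have hle : inertia W (ψ : W → ℂ) ⊓ Q ≤ S := by
    rintro a ⟨ha, haQ⟩
    by_contra haS
    have hmv := hmoved a haQ haS
    haveI := Fintype.ofFinite W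
    have hap : IsPGroup q (Subgroup.zpowers a) := hQp.to_le (Subgroup.zpowers_le.mpr haQ)
    have h2 := card_fixed_irr_le W a {b : W | a * (b : G) = b * a} fun z hz => by
      obtain ⟨b, hb, hbz⟩ := exists_fixed_of_class W hap hqW hz
      exact ⟨b, hb, hbz⟩
    have h3 : Nat.card {b : W | a * (b : G) = b * a} ≤ w₁ := by
      refine le_of_eq_of_le (Nat.card_congr ?_)
        (Nat.le_of_dvd (Nat.pos_of_ne_zero Subgroup.index_ne_zero_of_finite) (hCW a haQ hmv))
      exact { toFun := fun b => ⟨(b : W), b.1.2, Subgroup.mem_centralizer_singleton_iff.mpr b.2.symm⟩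
              invFun := fun b => ⟨⟨b, b.2.1⟩, (Subgroup.mem_centralizer_singleton_iff.mp b.2.2).symm⟩
              left_inv := fun b => rfl
              right_inv := fun b => rfl }
    -- the linear characters trivial on `X` are fixed
    set XW := X.subgroupOf W
    haveI : XW.Normal := hXn.comap _
    have habq : ∀ u v : W ⧸ XW, u * v = v * u := by
      intro u v
      obtain ⟨b, rfl⟩ := QuotientGroup.mk_surjective u
      obtain ⟨c, rfl⟩ := QuotientGroup.mk_surjective v
      rw [← commutatorElement_eq_one_iff_mul_comm]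
      show ⁅QuotientGroup.mk' XW b, QuotientGroup.mk' XW c⁆ = 1
      rw [← map_commutatorElement]
      exact (QuotientGroup.eq_one_iff _).mpr (Subgroup.mem_subgroupOf.mpr
        (Subgroup.commutator_mem_commutator (hWN b.2) (hWN c.2)))
    let ι : Option ((W ⧸ XW) →* ℂˣ) → {χ : IrrCharacter W // conjNormFun W a (χ : W → ℂ) = χ} := fun o =>
      o.elim ⟨ψ, (mem_inertia W).mp ha⟩ fun μ =>
        ⟨⟨_, Palfy.isIrr_hom (μ.comp (QuotientGroup.mk' XW))⟩, funext fun z => by
          show ((μ (QuotientGroup.mk' XW _) : ℂˣ) : ℂ) = _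
          refine congrArg (fun t => ((μ t : ℂˣ) : ℂ)) (QuotientGroup.eq.mpr (Subgroup.mem_subgroupOf.mpr ?_))
          show (a * z * a⁻¹)⁻¹ * (z : G) ∈ X
          have h4 := Subgroup.commutator_mem_commutator (hQN haQ) (inv_mem (hWN z.2))
          simpa [commutatorElement_def, mul_assoc] using h4⟩
    have hι : Function.Injective ι := by
      intro o o' e
      have e' : ((ι o).1 : W → ℂ) = (ι o').1 := congrArg (fun t => ((t.1 : IrrCharacter W) : W → ℂ)) e
      match o, o' with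
      | none, none => rfl
      | none, some μ =>
        exact absurd ((congrFun e' 1).trans (by simp [ι])) hψ
      | some μ, none =>
        exact absurd ((congrFun e' 1).symm.trans (by simp [ι])) hψ
      | some μ, some μ' =>
        refine congrArg some (MonoidHom.ext fun c => ?_)
        obtain ⟨z, rfl⟩ := QuotientGroup.mk_surjective c
        exact Units.ext (congrFun e' z)
    have h4 := Nat.card_le_card_of_injective ι hι
    haveI := Fintype.ofFinite ((W ⧸ XW) →* ℂˣ)
    rw [Nat.card_eq_fintype_card, Fintype.card_option, ← Nat.card_eq_fintype_card, Palfy.card_hom habq,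
      ← Subgroup.index_eq_card] at h4
    have h5 : XW.index = w₁ := rfl
    omega
  have hd : S.relIndex Q ∣ (inertia W (ψ : W → ℂ)).relIndex Q := by
    rw [← Subgroup.inf_relIndex_right (inertia W (ψ : W → ℂ))]
    exact Subgroup.relIndex_dvd_of_le_left Q hle
  have hψd : 1 < charDegree (ψ : W → ℂ) := lt_of_le_of_ne (charDegree_spec' ψ.2).2
    fun e => hψ ((charDegree_eq_one_iff ψ.2).mp e.symm)
  have hpos : 0 < (inertia W (ψ : W → ℂ)).relIndex Q := Nat.pos_of_ne_zero Subgroup.index_ne_zero_of_finite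
  have hb : (inertia W (ψ : W → ℂ)).relIndex Q * charDegree (ψ : W → ℂ) ∈ A :=
    hdegW _ ψ.2 (by nlinarith)
  have := hanti _ hm₀ _ hb (hd.mul_right _)
  nlinarith [Nat.le_of_dvd hpos hd]

end CfsgLib.NoDivPair
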