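import Cfsg.Agent.Lib.NoDivPair.Basic

/-!
Counting the points fixed by an automorphism in the orbits of an abelian group with constant stabiliser.
-/

set_option autoImplicit false

namespace CfsgLib.NoDivPair

open Cfsg CfsgLib CfsgLib.CharTheory
open scoped commutatorElement

universe u

variable {G : Type u} [Group G] [Finite G]

theorem card_linear_hom (X : Type u) [Group X] [Finite X] :
    Nat.card (X →* ℂˣ) = (commutator X).index := by
  show Nat.card (X →* ℂˣ) = Nat.card (Abelianization X)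
  rw [← Nat.card_congr (Abelianization.lift (G := X) (A := ℂˣ)).symm]
  exact CommGroup.card_monoidHom_of_hasEnoughRootsOfUnity _ _

/-- `H` has all stabilisers of nontrivial points equal to `S`; `g` normalises `H` and maps every point
into its `H`-orbit. The fixed points of `g` then account for the whole set. -/
theorem orbit_count {M : Type u} [Group M] [Finite M] (act : G →* MulAut M) {H S : Subgroup G}
    (hab : ∀ a ∈ H, ∀ b ∈ H, a * b = b * a) (hSH : S ≤ H)
    (hstab : ∀ m : M, m ≠ 1 → ∀ h ∈ H, (act h m = m ↔ h ∈ S))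
    {g : G} (hgH : ∀ h ∈ H, g * h * g⁻¹ ∈ H) {r : ℕ} [Fact r.Prime] (hg : IsPGroup r (Subgroup.zpowers g))
    (hr : ¬ r ∣ S.relIndex H) (horb : ∀ m : M, ∃ h ∈ H, act g m = act h m) :
    (Nat.card {m : M // act g m = m} - 1) * Nat.card H =
      (Nat.card M - 1) * Nat.card {a : H // g * (a : G) * g⁻¹ * (a : G)⁻¹ ∈ S} := by
  classical
  haveI := Fintype.ofFinite M
  set A := {a : H // g * (a : G) * g⁻¹ * (a : G)⁻¹ ∈ S} with hAdef
  have hne : ∀ (h : G) (m : M), m ≠ 1 → act h m ≠ 1 := fun h m hm e =>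
    hm ((act h).injective (by rw [e, map_one]))
  -- every orbit has a fixed point
  have hfix : ∀ m : M, m ≠ 1 → ∃ h ∈ H, act g (act h m) = act h m := by
    intro m hm
    let O : Type u := {x : M // ∃ h ∈ H, act h m = x}
    have hpres : ∀ x : M, (∃ h ∈ H, act h m = x) → ∃ h ∈ H, act h m = act g x := by
      rintro _ ⟨h, hh, rfl⟩
      obtain ⟨k, hk, e⟩ := horb m
      refine ⟨g * h * g⁻¹ * k, mul_mem (hgH h hh) hk, ?_⟩
      rw [map_mul, MulAut.mul_apply, ← e, ← MulAut.mul_apply, ← map_mul,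
        inv_mul_cancel_right, map_mul, MulAut.mul_apply]
    have hpresn : ∀ (n : ℕ) (x : M), (∃ h ∈ H, act h m = x) → ∃ h ∈ H, act h m = act (g ^ n) x := by
      intro n
      induction n with
      | zero => intro x hx; simpa using hx
      | succ n ih =>
        intro x hx
        rw [pow_succ', map_mul, MulAut.mul_apply]
        exact hpres _ (ih x hx)
    have hall : ∀ t : Subgroup.zpowers g, ∀ x : M, (∃ h ∈ H, act h m = x) →
        ∃ h ∈ H, act h m = act (t : G) x := by
      intro t x hx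
      obtain ⟨n, hn⟩ := (mem_powers_iff_mem_zpowers.mpr t.2 : (t : G) ∈ Submonoid.powers g)
      rw [← hn]
      exact hpresn n x hx
    letI : MulAction (Subgroup.zpowers g) O :=
      { smul := fun t x => ⟨act (t : G) x.1, hall t x.1 x.2⟩
        one_smul := fun x => Subtype.ext (by
          show act ((1 : Subgroup.zpowers g) : G) x.1 = x.1
          rw [Subgroup.coe_one, map_one]; rfl)
        mul_smul := fun s t x => Subtype.ext (by
          show act ((s * t : Subgroup.zpowers g) : G) x.1 = act (s : G) (act (t : G) x.1)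
          rw [Subgroup.coe_mul, map_mul]; rfl) }
    have hcard : Nat.card O = S.relIndex H := by
      letI : MulAction H M := MulAction.compHom M (act.comp H.subtype)
      have h1 : S.subgroupOf H = MulAction.stabilizer H m := by
        ext h
        rw [Subgroup.mem_subgroupOf, MulAction.mem_stabilizer_iff]
        exact (hstab m hm h h.2).symm
      rw [Subgroup.relIndex, h1, MulAction.index_stabilizer, ← Nat.card_coe_set_eq]
      refine Nat.card_congr (Equiv.subtypeEquivRight fun x => ?_)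
      exact ⟨fun ⟨h, hh, e⟩ => ⟨⟨h, hh⟩, e⟩, fun ⟨h, e⟩ => ⟨h, h.2, e⟩⟩
    obtain ⟨⟨x, h, hh, e⟩, hx⟩ := hg.nonempty_fixed_point_of_prime_not_dvd_card (α := O) (hcard.symm ▸ hr)
    refine ⟨h, hh, ?_⟩
    have := congrArg Subtype.val (hx ⟨g, Subgroup.mem_zpowers g⟩)
    rw [e]
    exact this
  -- moving inside the orbit of a fixed point
  have hmove : ∀ m : M, m ≠ 1 → act g m = m → ∀ a ∈ H,
      (act g (act a m) = act a m ↔ g * a * g⁻¹ * a⁻¹ ∈ S) := by
    intro m hm hgm a ha
    rw [← hstab m hm _ (mul_mem (hgH a ha) (inv_mem ha))]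
    have e1 : act g (act a m) = act (g * a * g⁻¹) m := by
      have hginv : act g⁻¹ m = m := by
        rw [map_inv]; exact (act g).symm_apply_eq.mpr hgm.symm
      conv_rhs => rw [map_mul, MulAut.mul_apply, hginv, map_mul, MulAut.mul_apply]
    rw [e1, hab _ (hgH a ha) _ (inv_mem ha), map_mul act a⁻¹ (g * a * g⁻¹), MulAut.mul_apply,
      map_inv act a]
    exact (act a).symm_apply_eq.symm
  -- the counting map
  let F : Type u := {m : M // m ≠ 1 ∧ act g m = m}
  let Ω : Type u := {m : M // m ≠ 1}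
  let Φ : F × H → Ω := fun p => ⟨act (p.2 : G) p.1.1, hne _ _ p.1.2.1⟩
  have hfibre : ∀ ω : Ω, Nat.card {p : F × H // Φ p = ω} = Nat.card A := by
    rintro ⟨m, hm⟩
    obtain ⟨k, hk, hkfix⟩ := hfix m hm
    set f₀ := act k m with hf₀
    have hf0 : f₀ ≠ 1 := hne k m hm
    have hm' : act k⁻¹ f₀ = m := by rw [hf₀, ← MulAut.mul_apply, ← map_mul, inv_mul_cancel, map_one]; rfl
    refine Nat.card_congr
      { toFun := fun p => ⟨⟨(p.1.2 : G)⁻¹ * k⁻¹, mul_mem (inv_mem p.1.2.2) (inv_mem hk)⟩, ?_⟩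
        invFun := fun a => ⟨(⟨act (a.1 : G) f₀, hne _ _ hf0, (hmove f₀ hf0 hkfix a.1 a.1.2).mpr a.2⟩,
          ⟨k⁻¹ * (a.1 : G)⁻¹, mul_mem (inv_mem hk) (inv_mem a.1.2)⟩), Subtype.ext ?_⟩
        left_inv := ?_
        right_inv := ?_ }
    · refine (hmove f₀ hf0 hkfix _ (mul_mem (inv_mem p.1.2.2) (inv_mem hk))).mp ?_
      have e : act (p.1.2 : G) p.1.1.1 = m := congrArg Subtype.val p.2
      have e' : act ((p.1.2 : G)⁻¹ * k⁻¹) f₀ = p.1.1.1 := by
        rw [map_mul, MulAut.mul_apply, hm', map_inv]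
        exact (act (p.1.2 : G)).symm_apply_eq.mpr e.symm
      rw [e']
      exact p.1.1.2.2
    · show act (k⁻¹ * (a.1 : G)⁻¹) (act (a.1 : G) f₀) = m
      rw [← MulAut.mul_apply, ← map_mul, inv_mul_cancel_right, hm']
    · rintro ⟨⟨f, h⟩, hp⟩
      have e : act (h : G) f.1 = m := congrArg Subtype.val hp
      refine Subtype.ext (Prod.ext (Subtype.ext ?_) (Subtype.ext ?_))
      · show act ((h : G)⁻¹ * k⁻¹) f₀ = f.1
        rw [map_mul, MulAut.mul_apply, hm', map_inv]
        exact (act (h : G)).symm_apply_eq.mpr e.symm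
      · show k⁻¹ * ((h : G)⁻¹ * k⁻¹)⁻¹ = h
        rw [mul_inv_rev, inv_inv, inv_inv, inv_mul_cancel_left]
    · rintro ⟨⟨a, ha⟩, ha'⟩
      refine Subtype.ext (Subtype.ext ?_)
      show (k⁻¹ * a⁻¹)⁻¹ * k⁻¹ = a
      rw [mul_inv_rev, inv_inv, inv_inv, mul_inv_cancel_right]
  haveI := Fintype.ofFinite F
  haveI := Fintype.ofFinite H
  haveI := Fintype.ofFinite Ω
  haveI := Fintype.ofFinite A
  have h1 : Nat.card (F × H) = Nat.card Ω * Nat.card A := by
    rw [Nat.card_congr (Equiv.sigmaFiberEquiv Φ).symm, Nat.card_sigma,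
      Finset.sum_congr rfl (fun ω _ => hfibre ω), Finset.sum_const, smul_eq_mul, Finset.card_univ,
      Nat.card_eq_fintype_card (α := Ω)]
  rw [Nat.card_prod] at h1
  have hΩ : Nat.card Ω = Nat.card M - 1 := by
    simp only [Ω, Nat.card_eq_fintype_card, Fintype.card_subtype_compl, Fintype.card_subtype_eq]
  have hF : Nat.card F = Nat.card {m : M // act g m = m} - 1 := by
    rw [Nat.card_eq_fintype_card, Nat.card_eq_fintype_card, Fintype.card_subtype, Fintype.card_subtype,
      show (Finset.univ.filter fun m : M => m ≠ 1 ∧ act g m = m) =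
        (Finset.univ.filter fun m : M => act g m = m).erase 1 from by ext; simp [and_comm],
      Finset.card_erase_of_mem (by simp)]
  rwa [hΩ, hF] at h1

/-- Two ratios of the form `(p ^ a - 1) / (p ^ b - 1)` agree only trivially. -/
theorem exponent_eq {p a b c d n m : ℕ} (hp : p.Prime) (ha : 1 ≤ a) (hc : 1 ≤ c) (hn : 0 < n) (hnm : n < m)
    (h1 : (p ^ a - 1) * n = (p ^ b - 1) * m) (h2 : (p ^ c - 1) * n = (p ^ d - 1) * m) : a = c := by
  have hp1 := hp.one_lt
  have pos : ∀ k, 1 ≤ k → 0 < p ^ k - 1 := fun k hk => Nat.sub_pos_of_lt (Nat.one_lt_pow (by omega) hp1)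
  have hlt : ∀ {a b : ℕ}, 1 ≤ a → (p ^ a - 1) * n = (p ^ b - 1) * m → 1 ≤ b ∧ b < a := by
    intro a b ha h
    refine ⟨Nat.one_le_iff_ne_zero.mpr fun e => ?_, ?_⟩
    · rw [e, pow_zero, Nat.sub_self, zero_mul] at h
      exact absurd h (mul_pos (pos a ha) hn).ne'
    · by_contra hle
      have h3 : p ^ a - 1 ≤ p ^ b - 1 := Nat.sub_le_sub_right (Nat.pow_le_pow_right hp.pos (by omega)) 1
      have h4 : (p ^ a - 1) * n < (p ^ b - 1) * m :=
        lt_of_lt_of_le (Nat.mul_lt_mul_of_pos_left hnm (pos a ha)) (Nat.mul_le_mul_right m h3)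
      exact h4.ne h
  obtain ⟨hb, hba⟩ := hlt ha h1
  obtain ⟨hd, hdc⟩ := hlt hc h2
  have hcross : (p ^ a - 1) * (p ^ d - 1) = (p ^ c - 1) * (p ^ b - 1) := by
    apply Nat.eq_of_mul_eq_mul_right hn
    calc (p ^ a - 1) * (p ^ d - 1) * n = (p ^ a - 1) * n * (p ^ d - 1) := by ring
      _ = (p ^ b - 1) * m * (p ^ d - 1) := by rw [h1]
      _ = (p ^ b - 1) * ((p ^ d - 1) * m) := by ring
      _ = (p ^ b - 1) * ((p ^ c - 1) * n) := by rw [h2]
      _ = _ := by ring
  have key : ∀ {a b c d : ℕ}, b < a → d < c → b < d → 1 ≤ b →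
      (p ^ a - 1) * (p ^ d - 1) ≠ (p ^ c - 1) * (p ^ b - 1) := by
    intro a b c d hba hdc hbd hb h
    have e : p ^ (a + d) + p ^ c + p ^ b = p ^ (c + b) + p ^ a + p ^ d := by
      have q1 := Nat.one_le_pow a p hp.pos
      have q2 := Nat.one_le_pow b p hp.pos
      have q3 := Nat.one_le_pow c p hp.pos
      have q4 := Nat.one_le_pow d p hp.pos
      zify [q1, q2, q3, q4] at h ⊢
      linear_combination h
    have hdv : p ^ (b + 1) ∣ p ^ (a + d) + p ^ c + p ^ b := by
      rw [e]
      exact dvd_add (dvd_add (pow_dvd_pow p (by omega)) (pow_dvd_pow p (by omega))) (pow_dvd_pow p (by omega))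
    have := (Nat.dvd_add_right (dvd_add (pow_dvd_pow p (show b + 1 ≤ a + d by omega))
      (pow_dvd_pow p (show b + 1 ≤ c by omega)))).mp hdv
    exact absurd ((Nat.pow_dvd_pow_iff_le_right hp1).mp this) (by omega)
  rcases lt_trichotomy b d with hbd | rfl | hbd
  · exact absurd hcross (key hba hdc hbd hb)
  · have h3 := Nat.eq_of_mul_eq_mul_right (pos b hb) hcross
    have q1 := Nat.one_le_pow a p hp.pos
    have q2 := Nat.one_le_pow c p hp.pos
    exact Nat.pow_right_injective hp.two_le (by show p ^ a = p ^ c; omega)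
  · exact absurd hcross.symm (key hdc hba hbd hd)

end CfsgLib.NoDivPair
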