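import Cfsg.Agent.Lib.NoDivPair.CaseTwo
import Cfsg.Agent.Lib.CharTheory.MinNonabelianQuotient
import Cfsg.Agent.Lib.PResidual

/-!
A solvable group without divisibility among its nonlinear degrees whose degree graph has two components:
all nonlinear degrees other than the index of the Frobenius kernel coincide.
-/

set_option autoImplicit false
set_option linter.unusedSectionVars false

namespace CfsgLib.NoDivPair

open Cfsg CfsgLib CfsgLib.CharTheory
open scoped commutatorElement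

universe u


variable {G : Type u} [Group G] [Finite G]

set_option maxHeartbeats 1000000 in
/-- All nonlinear characters of `N` have one degree. -/
theorem degrees_eq [Group.IsSolvable G] (N K : Subgroup G) [N.Normal] [K.Normal] {q : ℕ} (hq : q.Prime)
    (hcomm : ∀ a ∈ N, ∀ b ∈ N, a * b * a⁻¹ * b⁻¹ ∈ K) (hexp : ∀ a ∈ N, a ^ q ∈ K)
    (hqf : ¬ q ∣ N.index) (hNK : ¬ N ≤ K) (hf : 1 < N.index)
    (hfp : ∀ t, t ∉ N → ∀ n ∈ N, t * n * t⁻¹ * n⁻¹ ∈ K → n ∈ K) {A : Set ℕ} (hgood : Good N A)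
    (hanti : Anti A) (hbig : ∀ m ∈ A, 1 < m) (hqA : ∀ m ∈ A, q ∣ m) (hfA : ∀ m ∈ A, m.Coprime N.index)
    {θ θ' : N → ℂ} (hθ : IsIrrCharacter N θ) (hθ' : IsIrrCharacter N θ') (h1 : θ 1 ≠ 1) (h1' : θ' 1 ≠ 1) :
    charDegree θ = charDegree θ' := by
  classical
  haveI := Fact.mk hq
  haveI := Fintype.ofFinite G
  haveI := Fintype.ofFinite N
  set X : Subgroup G := ⁅N, N⁆ with hXdef
  haveI hXn : X.Normal := Subgroup.commutator_normal N N
  have hXK : X ≤ K := Subgroup.commutator_le.mpr fun a ha b hb => by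
    rw [commutatorElement_def]; exact hcomm a ha b hb
  -- the normal `q`-complement
  set WN : Subgroup N := Cfsg.pResidual q N
  have hWcop : (Nat.card WN).Coprime q := pResidual_coprime_of_degrees fun χ d hχ hd hd1 => by
    have e : charDegree χ = d := by simp [charDegree, hd]
    exact e ▸ hqA _ (hgood χ hχ (fun h => by
      rw [hd] at h
      have : d = 1 := by exact_mod_cast h
      omega)).2
  obtain ⟨kq, hkq⟩ : ∃ k, WN.index = q ^ k :=
    (CfsgLib.isPGroup_quotient_of_pResidual_le (p := q) (G := N) le_rfl).exists_card_eq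
  have hWM : (Nat.card WN).Coprime WN.index := hkq ▸ hWcop.pow_right kq
  set W : Subgroup G := WN.map N.subtype with hWdef
  haveI hWn : W.Normal := inferInstance
  have hWN : W ≤ N := Subgroup.map_subtype_le WN
  have hWsub : W.subgroupOf N = WN := Subgroup.comap_map_eq_self_of_injective N.subtype_injective WN
  have hWidx : W.relIndex N = q ^ kq := by rw [Subgroup.relIndex, hWsub, hkq]
  have hWcard : (Nat.card W).Coprime q := by
    rwa [hWdef, ← Nat.card_congr (Subgroup.equivMapOfInjective _ _ N.subtype_injective).toEquiv]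
  obtain ⟨P⟩ : Nonempty (Sylow q N) := inferInstance
  set Q : Subgroup G := (P : Subgroup N).map N.subtype with hQdef
  have hQN : Q ≤ N := Subgroup.map_subtype_le _
  have hQp : IsPGroup q Q := P.2.map _
  have hWPtop : WN ⊔ (P : Subgroup N) = ⊤ := by
    have ha : (WN ⊔ (P : Subgroup N)).index ∣ q ^ kq := hkq ▸ Subgroup.index_dvd_of_le (le_sup_left (b := (P : Subgroup N)))
    have hb : (WN ⊔ (P : Subgroup N)).index ∣ (P : Subgroup N).index :=
      Subgroup.index_dvd_of_le (le_sup_right (a := WN))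
    have hco : (q ^ kq).Coprime (P : Subgroup N).index :=
      Nat.Coprime.pow_left _ (hq.coprime_iff_not_dvd.mpr P.not_dvd_index)
    exact Subgroup.index_eq_one.mp (Nat.eq_one_of_dvd_coprimes hco ha hb)
  have hWQ : W ⊔ Q = N := by
    rw [hWdef, hQdef, ← Subgroup.map_sup, hWPtop, ← MonoidHom.range_eq_map, Subgroup.range_subtype]
  have hqW : ¬ q ∣ Nat.card W := fun hd => hq.ne_one (Nat.eq_one_of_dvd_coprimes hWcard hd dvd_rfl)
  have hcopQW : (Nat.card Q).Coprime (Nat.card W) := by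
    obtain ⟨k, hk⟩ := IsPGroup.iff_card.mp hQp
    rw [hk]
    exact (hWcard.symm).pow_left k
  have hWQbot : W ⊓ Q = ⊥ := disjoint_iff.mp (Subgroup.disjoint_of_coprime_natCard hcopQW.symm)
  by_cases hWab : ∀ a b : WN, a * b = b * a
  · -- an abelian complement: all degrees are powers of `q`
    have hdvd : ∀ χ : N → ℂ, IsIrrCharacter N χ → χ 1 ≠ 1 → ∃ i, charDegree χ = q ^ i ∧ charDegree χ ∈ A := by
      intro χ hχ hne
      obtain ⟨n, ρ, hρ, hρχ⟩ := id hχ
      have h2 : Module.finrank ℂ (Fin n → ℂ) ∣ WN.index := degree_dvd_index_of_abelian_normal ρ WN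
        fun a ha b hb => congrArg Subtype.val (hWab ⟨a, ha⟩ ⟨b, hb⟩)
      have h3 : Module.finrank ℂ (Fin n → ℂ) = charDegree χ := by
        have h4 := (charDegree_spec' hχ).1
        rw [← hρχ, ρ.char_one, Nat.cast_inj] at h4
        rw [h4, hρχ]
      rw [h3, hkq] at h2
      obtain ⟨i, -, hi⟩ := (Nat.dvd_prime_pow hq).mp h2
      exact ⟨i, hi, (hgood χ hχ hne).2⟩
    obtain ⟨i, hi, hiA⟩ := hdvd θ hθ h1
    obtain ⟨j, hj, hjA⟩ := hdvd θ' hθ' h1'
    rcases le_total i j with h | h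
    · exact hanti _ hiA _ hjA (hi ▸ hj ▸ pow_dvd_pow q h)
    · exact (hanti _ hjA _ hiA (hi ▸ hj ▸ pow_dvd_pow q h)).symm
  push Not at hWab
  -- `N' ≤ W`
  have hXW : X ≤ W := by
    have h := commutator_le_complement WN hWM ⟨kq, hkq⟩ hWab fun χ ψ hχ hd => by
      have hne : ∀ χ : IrrCharacter N, 1 < charDegree (χ : N → ℂ) → (χ : N → ℂ) 1 ≠ 1 := fun χ hχ e => by
        rw [(charDegree_eq_one_iff χ.2).mpr e] at hχ; omega
      exact hanti _ (hgood χ χ.2 (hne χ hχ)).2 _ (hgood ψ ψ.2 (hne ψ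
        (lt_of_lt_of_le hχ (Nat.le_of_dvd (charDegree_spec' ψ.2).2 hd)))).2 hd
    rw [hXdef, ← Subgroup.map_subtype_commutator]
    exact Subgroup.map_mono h
  have hQab : ∀ a ∈ Q, ∀ b ∈ Q, a * b = b * a := by
    intro a ha b hb
    rw [← commutatorElement_eq_one_iff_mul_comm, ← Subgroup.mem_bot, ← hWQbot]
    have h : ⁅a, b⁆ ∈ Q := mul_mem (mul_mem (mul_mem ha hb) (inv_mem ha)) (inv_mem hb)
    exact ⟨hXW (Subgroup.commutator_mem_commutator (hQN ha) (hQN hb)), h⟩
  have hXQ : ∀ a ∈ Q, a ∈ X → a = 1 := fun a ha hx => Subgroup.mem_bot.mp (hWQbot ▸ ⟨hXW hx, ha⟩)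
  -- the automorphism and the moved element
  have hfrat : Subgroup.normalizer (Q : Set G) ⊔ N = ⊤ := Sylow.normalizer_sup_eq_top P
  obtain ⟨g₀, hg₀, hg₀N⟩ : ∃ g₀ ∈ Subgroup.normalizer (Q : Set G), g₀ ∉ N := by
    by_contra hc
    push Not at hc
    have : N = ⊤ := by rw [← hfrat]; exact (sup_eq_right.mpr hc).symm
    rw [this, Subgroup.index_top] at hf
    omega
  set gb : G ⧸ N := (g₀ : G ⧸ N) with hgb
  obtain ⟨r, hr, hrd⟩ := Nat.exists_prime_and_dvd (n := orderOf gb) fun e =>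
    hg₀N ((QuotientGroup.eq_one_iff g₀).mp (orderOf_eq_one_iff.mp e))
  haveI := Fact.mk hr
  have hrf : r ∣ N.index := hrd.trans (by rw [Subgroup.index_eq_card]; exact orderOf_dvd_natCard gb)
  have hrq : r ≠ q := fun e => hqf (e ▸ hrf)
  set n₀ := orderOf g₀ / r ^ (orderOf g₀).factorization r
  set g := g₀ ^ n₀ with hgdef
  have hgN : g ∉ N := fun h => by
    have h2 : gb ^ n₀ = 1 := by rw [hgb, ← QuotientGroup.mk_pow]; exact (QuotientGroup.eq_one_iff _).mpr h
    exact Nat.not_dvd_ordCompl hr (orderOf_pos g₀).ne' (hrd.trans (orderOf_dvd_of_pow_eq_one h2))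
  have hgR : g ∈ Subgroup.normalizer (Q : Set G) := pow_mem hg₀ _
  have hgord : orderOf g = r ^ (orderOf g₀).factorization r := by
    rw [hgdef, orderOf_pow g₀, Nat.gcd_eq_right (Nat.ordCompl_dvd _ _)]
    exact Nat.div_div_self (Nat.ordProj_dvd _ _) (orderOf_pos g₀).ne'
  have hgp : IsPGroup r (Subgroup.zpowers g) := IsPGroup.of_card (n := _) (by rw [Nat.card_zpowers]; exact hgord)
  obtain ⟨y, hyQ, hyK⟩ : ∃ y ∈ Q, y ∉ K := by
    by_contra hc
    push Not at hc
    refine hNK ?_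
    rw [← hWQ]
    refine sup_le (fun w hw => ?_) hc
    obtain ⟨j, hj⟩ := exists_pow_eq_self_of_coprime
      (show q.Coprime (orderOf (⟨w, hw⟩ : W)) from hWcard.symm.coprime_dvd_right (orderOf_dvd_natCard _))
    have h2 : (w ^ q) ^ j = w := congrArg Subtype.val hj
    rw [← h2]
    exact pow_mem (hexp w (hWN hw)) j
  set x := g * y * g⁻¹ * y⁻¹ with hxdef
  have hxQ : x ∈ Q := mul_mem ((Subgroup.mem_normalizer_iff.mp hgR y).mp hyQ) (inv_mem hyQ)
  have hxK : x ∉ K := fun h => hyK (hfp g hgN y (hQN hyQ) h)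
  have hxmove : ∃ k : G, k * x * k⁻¹ * x⁻¹ ∉ X :=
    ⟨g, fun h => hxK (hfp g hgN x (hQN hxQ) (hXK h))⟩
  -- centralizers in `W` of moved elements of `Q`
  set w₁ := X.relIndex W with hw₁
  have hCW : ∀ a ∈ Q, (∃ k : G, k * a * k⁻¹ * a⁻¹ ∉ X) →
      Nat.card (W ⊓ Subgroup.centralizer ({a} : Set G) : Subgroup G) ∣ w₁ := by
    intro a ha hmv
    have h2 := card_centralizer_moved hgood (hQN ha) hmv
    have h3 : Nat.card (W ⊓ Subgroup.centralizer ({a} : Set G) : Subgroup G) ∣ X.relIndex N :=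
      h2 ▸ Subgroup.card_dvd_of_le (inf_le_inf_right _ hWN)
    rw [← Subgroup.relIndex_mul_relIndex _ _ _ hXW hWN, hWidx] at h3
    refine Nat.Coprime.dvd_of_dvd_mul_right ?_ h3
    exact Nat.Coprime.coprime_dvd_left (Subgroup.card_dvd_of_le inf_le_left) (hWcard.pow_right kq)
  have hQnormW : Q ≤ Subgroup.normalizer (W : Set G) := by rw [Subgroup.normalizer_eq_top]; exact le_top
  -- index in `N` as index in `Q`
  have hrelQ : ∀ φ : W → ℂ, IsIrrCharacter W φ → (inertia W φ).relIndex N = (inertia W φ).relIndex Q :=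
    fun φ hφ => relIndex_sup_eq hWQ (le_inertia W (isClassFunction_irr hφ))
  have hdegW : ∀ φ : W → ℂ, IsIrrCharacter W φ → (inertia W φ).relIndex Q * charDegree φ ≠ 1 →
      (inertia W φ).relIndex Q * charDegree φ ∈ A := fun φ hφ h => by
    rw [← hrelQ φ hφ] at h ⊢
    exact degree_mem_coprime hWN (hWidx ▸ hWcard.pow_right kq) hgood hφ h
  have hWab' : ∃ a b : W, a * b ≠ b * a := by
    obtain ⟨a, b, hab⟩ := hWab
    refine ⟨⟨((a : N) : G), ⟨a, a.2, rfl⟩⟩, ⟨((b : N) : G), ⟨b, b.2, rfl⟩⟩, fun e => hab ?_⟩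
    exact Subtype.ext (Subtype.ext (congrArg Subtype.val e :))
  have hWW : X = ⁅W, W⁆ :=
    derived_eq N W Q hq hWN hQN hWQ hQp hQab hcopQW hqW hXW hWab' hanti hdegW hCW hr hrq hgord hgR hyQ hxQ hxmove
  -- the configuration
  set C : Subgroup G := W ⊓ Subgroup.centralizer (Q : Set G) with hCdef
  set H : Subgroup G := C ⊔ Q with hHdef
  set R : Subgroup G := Subgroup.normalizer (Q : Set G) with hRdef
  have hHN : H ≤ N := sup_le (inf_le_left.trans hWN) hQN
  have hXN : X ≤ N := Subgroup.commutator_le_self N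
  have hUn : ∀ H' : Subgroup G, H' ≤ Subgroup.normalizer (X : Set G) := fun H' => by
    rw [Subgroup.normalizer_eq_top]; exact le_top
  have hXH : X ⊔ H = N := by
    refine le_antisymm (sup_le hXN hHN) ?_
    rw [← hWQ]
    refine sup_le (fun w hw => ?_) (le_sup_right.trans le_sup_right)
    obtain ⟨c, ⟨hcW, hc⟩, hwc⟩ := coprime_fixed_quotient (A := Q) (K := W) (N := X) hQnormW hcopQW
      (Or.inr inferInstance) hXW (hUn W) (hUn Q) hw (fun a ha => by
        rw [← commutatorElement_def]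
        exact Subgroup.commutator_mem_commutator (hQN ha) (hWN hw))
    have : w = c * (w⁻¹ * c)⁻¹ := by group
    rw [this]
    exact mul_mem (Subgroup.mem_sup_right (Subgroup.mem_sup_left ⟨hcW, hc⟩)) (Subgroup.mem_sup_left (inv_mem hwc))
  -- a centralizer of order `|N : X|`
  have hrelH : X.relIndex N = X.relIndex H := relIndex_sup_eq hXH le_rfl
  have hHcard : ∀ a ∈ N, (∃ k : G, k * a * k⁻¹ * a⁻¹ ∉ X) → H ≤ Subgroup.centralizer ({a} : Set G) →
      H ⊓ X = ⊥ ∧ N ⊓ Subgroup.centralizer ({a} : Set G) = H := by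
    intro a ha hmv hle
    have h2 := card_centralizer_moved hgood ha hmv
    have h3 : H ≤ N ⊓ Subgroup.centralizer ({a} : Set G) := le_inf hHN hle
    have h4 : Nat.card H ≤ X.relIndex H := by
      rw [← hrelH, ← h2]
      exact Nat.card_le_card_of_injective _ (Subgroup.inclusion_injective h3)
    have h5 := (X.subgroupOf H).card_mul_index
    have h6 : Nat.card (X.subgroupOf H) = 1 := by
      rw [Subgroup.relIndex] at h4
      have hp1 : 0 < Nat.card (X.subgroupOf H) := Nat.card_pos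
      nlinarith [(Nat.card_pos : 0 < Nat.card H)]
    refine ⟨?_, (Subgroup.eq_of_le_of_card_ge h3 ?_).symm⟩
    · have h7 := Subgroup.subgroupOf_eq_bot.mp (Subgroup.card_eq_one.mp h6)
      rw [inf_comm]; exact disjoint_iff.mp h7
    · rw [h2, hrelH, Subgroup.relIndex]
      exact Nat.le_of_dvd Nat.card_pos (Subgroup.index_dvd_card _)
  have hxC : H ≤ Subgroup.centralizer ({x} : Set G) := by
    refine sup_le (fun c hc => ?_) fun b hb => ?_
    · exact Subgroup.mem_centralizer_singleton_iff.mpr ((Subgroup.mem_centralizer_iff.mp hc.2 x hxQ).symm)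
    · exact Subgroup.mem_centralizer_singleton_iff.mpr (hQab b hb x hxQ)
  obtain ⟨hdis, hCNx⟩ := hHcard x (hQN hxQ) hxmove hxC
  have habH : ∀ a ∈ H, ∀ b ∈ H, a * b = b * a := fun a ha b hb => by
    rw [← commutatorElement_eq_one_iff_mul_comm, ← Subgroup.mem_bot, ← hdis]
    have h : ⁅a, b⁆ ∈ H := mul_mem (mul_mem (mul_mem ha hb) (inv_mem ha)) (inv_mem hb)
    exact ⟨h, Subgroup.commutator_mem_commutator (hHN ha) (hHN hb)⟩
  have hRH : R ≤ Subgroup.normalizer (H : Set G) := by
    intro k hk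
    refine Subgroup.mem_normalizer_fintype ?_
    intro n hn
    have hmap : H.map (MulAut.conj k : G ≃* G).toMonoidHom ≤ H := by
      rw [hHdef, Subgroup.map_sup]
      refine sup_le ?_ ?_
      · rintro _ ⟨c, ⟨hcW, hcQ⟩, rfl⟩
        refine Subgroup.mem_sup_left ⟨hWn.conj_mem c hcW k, Subgroup.mem_centralizer_iff.mpr fun b hb => ?_⟩
        have h2 := Subgroup.mem_centralizer_iff.mp hcQ _ ((Subgroup.mem_normalizer_iff''.mp hk b).mp hb)
        show b * (k * c * k⁻¹) = k * c * k⁻¹ * b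
        calc b * (k * c * k⁻¹) = k * ((k⁻¹ * b * k) * c) * k⁻¹ := by group
          _ = k * (c * (k⁻¹ * b * k)) * k⁻¹ := by rw [h2]
          _ = k * c * k⁻¹ * b := by group
      · rintro _ ⟨b, hb, rfl⟩
        exact Subgroup.mem_sup_right ((Subgroup.mem_normalizer_iff.mp hk b).mp hb)
    exact hmap ⟨n, hn, rfl⟩
  have hgen : X ⊔ R = ⊤ := by
    refine eq_top_iff.mpr ?_
    rw [← hfrat, ← hXH]
    refine sup_le le_sup_right (sup_le le_sup_left (le_sup_of_le_right (sup_le ?_ Subgroup.le_normalizer)))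
    intro c hc
    refine Subgroup.mem_normalizer_fintype ?_
    intro b hb
    rw [← Subgroup.mem_centralizer_iff.mp hc.2 b hb, mul_inv_cancel_right]
    exact hb
  have hfpfH : ∀ a ∈ H, (∃ k : G, k * a * k⁻¹ * a⁻¹ ∉ X) → Fpf X a := by
    intro a ha hmv z hz e
    have h2 := (hHcard a (hHN ha) hmv fun b hb =>
      Subgroup.mem_centralizer_singleton_iff.mpr (habH b hb a ha)).2
    have h3 : z ∈ H ⊓ X := ⟨h2 ▸ ⟨hXN hz, Subgroup.mem_centralizer_singleton_iff.mpr e.symm⟩, hz⟩
    rwa [hdis, Subgroup.mem_bot] at h3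
  have hlinX : ∀ w ∈ X, w ∈ ⁅N, N⁆ := fun w hw => hw
  have hrelX : ∀ φ : X → ℂ, IsIrrCharacter X φ → (inertia X φ).relIndex N = (inertia X φ).relIndex H :=
    fun φ hφ => relIndex_sup_eq hXH (le_inertia X (isClassFunction_irr hφ))
  have P' : Pair X H Q R g y q r A :=
    { abH := habH
      gen := hgen
      RH := hRH
      dich := fun a ha => by
        by_cases hmv : ∃ k : G, k * a * k⁻¹ * a⁻¹ ∉ X
        · exact Or.inl (hfpfH a ha hmv)
        · push Not at hmv
          right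
          intro k hk
          have h0 : k * a * k⁻¹ * a⁻¹ ∈ H :=
            mul_mem ((Subgroup.mem_normalizer_iff.mp (hRH hk) a).mp ha) (inv_mem ha)
          have h2 : k * a * k⁻¹ * a⁻¹ ∈ H ⊓ X := ⟨h0, hmv k⟩
          rw [hdis, Subgroup.mem_bot] at h2
          exact mul_inv_eq_iff_eq_mul.mp (mul_inv_eq_one.mp h2)
      gH := hgR
      gr := hgp
      hq := hq
      hr := hr
      hqr := hrq.symm
      Qle := le_sup_right
      Qp := hQp
      gQ := fun a ha => (Subgroup.mem_normalizer_iff.mp hgR a).mp ha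
      Qcop := fun hd => hqW (hd.trans (Subgroup.card_dvd_of_le hXW))
      yQ := hyQ
      hy := hfpfH x (Subgroup.mem_sup_right hxQ) hxmove
      anti := hanti
      big := hbig
      rA := fun m hm hd => hr.ne_one (Nat.eq_one_of_dvd_coprimes (hfA m hm) hd hrf)
      deg := fun ψ hψ hne => by
        obtain ⟨m, hm, hd⟩ := exists_over hXN hgood hψ hlinX hne
        exact ⟨m, hm, hrelX ψ hψ ▸ hd⟩
      lin := fun φ hφ => by
        rw [← hrelX _ (Palfy.isIrr_hom φ)]
        refine degree_mem_split hXH hdis hgood φ fun e => hφ ?_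
        have h2 : N ≤ inertia X fun n => (φ n : ℂ) := Subgroup.relIndex_eq_one.mp e
        refine (hfpfH x (Subgroup.mem_sup_right hxQ) hxmove).hom_eq_one ?_
        have h3 := h2 (hQN hxQ)
        rw [← Palfy.stab_eq_inertia] at h3
        exact h3
      inv := fun ψ hψ k => orbit_invariant hXH hlinX hgood hψ k }
  have hXab : ∀ a b : X, a * b = b * a := by
    have h := P'.commutator_eq_bot
    rw [Subgroup.commutator_eq_bot_iff_le_centralizer] at h
    exact fun a b => Subtype.ext (Subgroup.mem_centralizer_iff.mp (h a.2) b b.2).symm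
  have hkey : ∀ χ : N → ℂ, IsIrrCharacter N χ → χ 1 ≠ 1 →
      ∃ φ : X →* ℂˣ, φ ≠ 1 ∧ charDegree χ = (inertia X fun n => (φ n : ℂ)).relIndex H := by
    intro χ hχ hne
    set XN := X.subgroupOf N
    haveI := Fintype.ofFinite XN
    obtain ⟨ψ, hψ, hc⟩ := exists_constituent (isCharacter_restrict (isCharacter_of_irr hχ) XN)
      fun e => irr_ne_zero hχ (congrFun e 1)
    have hXNab : ∀ a b : XN, a * b = b * a := fun a b => Subtype.ext (Subtype.ext
      (congrArg Subtype.val (hXab ⟨((a : N) : G), a.2⟩ ⟨((b : N) : G), b.2⟩) :))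
    have hψ1 : ψ 1 = 1 := degree_one_of_commutative hXNab hψ
    obtain ⟨φ', hφ'⟩ := exists_hom_of_degree_one (isCharacter_of_irr hψ) hψ1
    let φ : X →* ℂˣ := φ'.comp (Subgroup.subgroupOfEquivOfLe hXN).symm.toMonoidHom
    have hdown : down X N (fun n => (φ n : ℂ)) = ψ := by
      rw [hφ']
      funext z
      rfl
    have hφne : φ ≠ 1 := by
      intro e
      refine hne (degree_one_of_kernel_commutator hχ fun n hn => ?_)
      have hn' : n ∈ XN := Subgroup.mem_subgroupOf.mpr ((Pair.mem_commutator_iff N n).mpr hn)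
      have hψt : ψ = fun _ => 1 := by
        rw [← hdown]
        funext z
        show ((φ _ : ℂˣ) : ℂ) = 1
        rw [e, MonoidHom.one_apply, Units.val_one]
      haveI : XN.Normal := hXn.comap _
      have hres := clifford_invariant XN hχ hψ hc fun k => by rw [hψt]; rfl
      have ha := congrFun hres ⟨n, hn'⟩
      have hb := congrFun hres 1
      rw [hψt] at ha hb
      simp only [Pi.smul_apply, smul_eq_mul, mul_one] at ha hb
      exact ha.trans hb.symm
    refine ⟨φ, hφne, ?_⟩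
    haveI : XN.Normal := hXn.comap _
    have hd := index_mul_degree_dvd XN hχ hψ hc
    rw [← hdown, inertia_down hXN, charDegree_down,
      show charDegree (fun n => (φ n : ℂ)) = 1 from by simp [charDegree], mul_one] at hd
    have hd' : (inertia X fun n => (φ n : ℂ)).relIndex N ∣ charDegree χ := hd
    rw [hrelX _ (Palfy.isIrr_hom φ)] at hd'
    exact (hanti _ (P'.lin φ hφne) _ (hgood χ hχ hne).2 hd').symm
  obtain ⟨φ, hφ, e⟩ := hkey θ hθ h1
  obtain ⟨φ', hφ', e'⟩ := hkey θ' hθ' h1'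
  rw [e, e']
  exact P'.relIndex_eq hφ hφ'

end CfsgLib.NoDivPair
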