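import Cfsg.Agent.Lib.NoDivPair.Count
import Cfsg.Agent.Lib.Elementary

/-!
A normal subgroup `X` with an abelian complement `H` whose elements are central in the normalizer or
fixed-point-free on `X`, an element `g` permuting the orbits of `H` on the characters, and an antichain
of degrees: all linear characters of `X` have one stabiliser, and minimality forces `X` to be abelian.
-/

set_option autoImplicit false
set_option linter.unusedSectionVars false

namespace CfsgLib.NoDivPair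

open Cfsg CfsgLib CfsgLib.CharTheory
open scoped commutatorElement

universe u

variable {G : Type u} [Group G] [Finite G]

/-- The configuration. -/
structure Pair (X : Subgroup G) [X.Normal] (H Qs R : Subgroup G) (g y : G) (q r : ℕ) (A : Set ℕ) : Prop where
  abH : ∀ a ∈ H, ∀ b ∈ H, a * b = b * a
  gen : X ⊔ R = ⊤
  RH : R ≤ Subgroup.normalizer (H : Set G)
  dich : ∀ h ∈ H, Fpf X h ∨ ∀ k ∈ R, k * h = h * k
  gH : g ∈ R
  gr : IsPGroup r (Subgroup.zpowers g)
  hq : q.Prime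
  hr : r.Prime
  hqr : q ≠ r
  Qle : Qs ≤ H
  Qp : IsPGroup q Qs
  gQ : ∀ a ∈ Qs, g * a * g⁻¹ ∈ Qs
  Qcop : ¬ q ∣ Nat.card X
  yQ : y ∈ Qs
  hy : Fpf X (g * y * g⁻¹ * y⁻¹)
  anti : Anti A
  big : ∀ m ∈ A, 1 < m
  rA : ∀ m ∈ A, ¬ r ∣ m
  deg : ∀ ψ : X → ℂ, IsIrrCharacter X ψ → ψ ≠ (fun _ => 1) →
    ∃ m ∈ A, (inertia X ψ).relIndex H * charDegree ψ ∣ m
  lin : ∀ φ : X →* ℂˣ, φ ≠ 1 → (inertia X (fun n => (φ n : ℂ))).relIndex H ∈ A
  inv : ∀ ψ : X → ℂ, IsIrrCharacter X ψ → ∀ k : G, ∃ h ∈ H, conjNormFun X k ψ = conjNormFun X h ψ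

namespace Pair

variable {X : Subgroup G} [X.Normal] {H Qs R : Subgroup G} {g y : G} {q r : ℕ} {A : Set ℕ}
  (P : Pair X H Qs R g y q r A)

include P

theorem x_mem : g * y * g⁻¹ * y⁻¹ ∈ Qs := mul_mem (P.gQ y P.yQ) (inv_mem P.yQ)

theorem g_mem {h : G} (hh : h ∈ H) : g * h * g⁻¹ ∈ H := (Subgroup.mem_normalizer_iff.mp (P.RH P.gH) h).mp hh

theorem not_le_stab {φ : X →* ℂˣ} (hφ : φ ≠ 1) : ¬ H ≤ Palfy.stab (Palfy.dualAct X) φ :=
  fun h => hφ (P.hy.hom_eq_one (h (P.Qle P.x_mem)))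

theorem stab_eq {φ φ' : X →* ℂˣ} (h : φ ≠ 1) (h' : φ' ≠ 1) :
    Palfy.stab (Palfy.dualAct X) φ ⊓ H = Palfy.stab (Palfy.dualAct X) φ' ⊓ H := by
  refine stab_eq_of_antichain (M := X →* ℂˣ) (Palfy.dualAct X) P.abH (fun z hz _ _ _ _ => ?_) (fun m n hm hn hd => ?_)
    (P.not_le_stab h) (P.not_le_stab h')
  · by_contra hne
    exact P.not_le_stab hne hz
  · have hne : ∀ c : X →* ℂˣ, ¬ H ≤ Palfy.stab (Palfy.dualAct X) c → c ≠ 1 := fun c hc e =>
      hc fun k _ => by rw [e]; exact map_one (Palfy.dualAct X k)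
    have hin : ∀ c : X →* ℂˣ, ¬ H ≤ Palfy.stab (Palfy.dualAct X) c →
        (Palfy.stab (Palfy.dualAct X) c).relIndex H ∈ A := fun c hc => by
      rw [Palfy.stab_eq_inertia]; exact P.lin c (hne c hc)
    exact P.anti _ (hin m hm) _ (hin n hn) hd

/-- All nontrivial linear characters have stabilisers of the same index. -/
theorem relIndex_eq {φ φ' : X →* ℂˣ} (h : φ ≠ 1) (h' : φ' ≠ 1) :
    (inertia X (fun n => (φ n : ℂ))).relIndex H = (inertia X (fun n => (φ' n : ℂ))).relIndex H := by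
  rw [← Palfy.stab_eq_inertia, ← Palfy.stab_eq_inertia, ← Subgroup.inf_relIndex_right, P.stab_eq h h',
    Subgroup.inf_relIndex_right]

omit P in
/-- The kernel of `H` on the linear characters of `X`. -/
def kerL (X : Subgroup G) [X.Normal] (H : Subgroup G) : Subgroup G := H ⊓ (Palfy.dualAct X).ker

theorem stab_iff {φ : X →* ℂˣ} (hφ : φ ≠ 1) {h : G} (hh : h ∈ H) :
    Palfy.dualAct X h φ = φ ↔ h ∈ kerL X H := by
  refine ⟨fun he => ⟨hh, MulEquiv.ext fun φ' => ?_⟩, fun hk => ?_⟩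
  · by_cases h' : φ' = 1
    · rw [h']; exact map_one _
    · exact (show h ∈ Palfy.stab (Palfy.dualAct X) φ' ⊓ H from P.stab_eq hφ h' ▸ ⟨he, hh⟩).1
  · have h1 : Palfy.dualAct X h = 1 := hk.2
    rw [h1]; rfl

theorem kerL_relIndex {φ : X →* ℂˣ} (hφ : φ ≠ 1) :
    (kerL X H).relIndex H = (inertia X (fun n => (φ n : ℂ))).relIndex H := by
  rw [← Palfy.stab_eq_inertia, ← Subgroup.inf_relIndex_right (Palfy.stab _ _)]
  congr 1
  ext h
  exact ⟨fun hk => ⟨(P.stab_iff hφ hk.1).mpr hk, hk.1⟩, fun hk => (P.stab_iff hφ hk.2).mp hk.1⟩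

omit P in
theorem mem_commutator_iff (X : Subgroup G) (z : X) : (z : G) ∈ ⁅X, X⁆ ↔ z ∈ commutator X := by
  rw [← Subgroup.map_subtype_commutator]
  exact Subgroup.mem_map_iff_mem X.subtype_injective

theorem comm_mem_of_kerL {h : G} (hk : h ∈ kerL X H) {x : G} (hx : x ∈ X) :
    h * x * h⁻¹ * x⁻¹ ∈ ⁅X, X⁆ := by
  let z : X := (MulAut.conjNormal h : X ≃* X) ⟨x, hx⟩ * ⟨x, hx⟩⁻¹
  show (z : G) ∈ ⁅X, X⁆
  rw [mem_commutator_iff X z]
  by_contra hn
  obtain ⟨φ, hφ⟩ := Palfy.exists_hom_ne_one' hn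
  refine hφ ?_
  have h1 : Palfy.dualAct X h⁻¹ = 1 := MonoidHom.mem_ker.mp (inv_mem hk.2)
  have h2 : Palfy.dualAct X h⁻¹ φ ⟨x, hx⟩ = φ ⟨x, hx⟩ := by rw [h1]; rfl
  rw [map_mul, map_inv, mul_inv_eq_one, ← h2, Palfy.dualAct_apply]
  exact congrArg φ (Subtype.ext (by simp [MulAut.conjNormal_apply]))

theorem mem_commutator_of_comm {h : G} (hh : h ∈ H) (hk : h ∉ kerL X H) {x : G} (hx : x ∈ X)
    (hc : h * x * h⁻¹ * x⁻¹ ∈ ⁅X, X⁆) : x ∈ ⁅X, X⁆ := by
  rw [show x = ((⟨x, hx⟩ : X) : G) from rfl, mem_commutator_iff X]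
  by_contra hn
  obtain ⟨μ, hμ⟩ := Palfy.exists_hom_ne_one' hn
  let e : (X →* ℂˣ) →* (X →* ℂˣ) :=
    { toFun := fun φ => Palfy.dualAct X h⁻¹ φ * φ⁻¹
      map_one' := MonoidHom.ext fun z => by simp only [map_one, MonoidHom.mul_apply, MonoidHom.inv_apply, MonoidHom.one_apply, inv_one, mul_one]
      map_mul' := fun a b => MonoidHom.ext fun z => by
        simp only [map_mul, MonoidHom.mul_apply, MonoidHom.inv_apply, mul_inv]
        exact mul_mul_mul_comm _ _ _ _ }
  have hinj : Function.Injective e := by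
    refine (injective_iff_map_eq_one e).mpr fun φ hφ => ?_
    by_contra hne
    exact hk (inv_mem_iff.mp ((P.stab_iff hne (inv_mem hh)).mp (mul_inv_eq_one.mp hφ)))
  obtain ⟨φ, rfl⟩ := Finite.surjective_of_injective hinj μ
  refine hμ ?_
  show Palfy.dualAct X h⁻¹ φ ⟨x, hx⟩ * (φ ⟨x, hx⟩)⁻¹ = 1
  rw [Palfy.dualAct_apply, ← map_inv, ← map_mul]
  obtain ⟨ψ, hψ⟩ : ∃ ψ : Abelianization X →* ℂˣ, φ = ψ.comp Abelianization.of :=
    ⟨Abelianization.lift φ, MonoidHom.ext fun z => (Abelianization.lift_apply_of φ z).symm⟩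
  rw [hψ, MonoidHom.comp_apply, (MonoidHom.mem_ker (f := Abelianization.of)).mp ?_, map_one]
  rw [Abelianization.ker_of, ← mem_commutator_iff X]
  simpa using hc

theorem fpf_not_kerL (hX : commutator X ≠ ⊤) {h : G} (hf : Fpf X h) : h ∉ kerL X H := by
  intro hk
  obtain ⟨a, ha⟩ : ∃ a : X, a ∉ commutator X := by
    by_contra hc
    push Not at hc
    exact hX (eq_top_iff.mpr fun a _ => hc a)
  obtain ⟨φ, hφ⟩ := Palfy.exists_hom_ne_one' ha
  have h1 : Palfy.dualAct X h φ = φ := by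
    have h1 : Palfy.dualAct X h = 1 := hk.2
    rw [h1]; rfl
  exact hφ (by rw [hf.hom_eq_one h1]; rfl)

end Pair

/-- A `q`-group acting semiregularly on an abelian group, with `g` centralizing an element that acts
nontrivially: all commutators with `g` act trivially. -/
theorem commutator_acts_trivially {M : Type u} [CommGroup M] [Finite M] [Nontrivial M] (act : G →* MulAut M)
    {q : ℕ} [Fact q.Prime] {Qs : Subgroup G} (hp : IsPGroup q Qs) (hab : ∀ a ∈ Qs, ∀ b ∈ Qs, a * b = b * a)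
    {g : G} (hgQ : ∀ a ∈ Qs, g * a * g⁻¹ ∈ Qs) (hcop : (orderOf g).Coprime q)
    (hsemi : ∀ a ∈ Qs, act a ≠ 1 → ∀ m, act a m = m → m = 1)
    {z : G} (hz : z ∈ Qs) (hgz : g * z = z * g) (hz1 : act z ≠ 1) {a : G} (ha : a ∈ Qs) :
    act (g * a * g⁻¹ * a⁻¹) = 1 := by
  haveI : Finite (MulAut M) := Finite.of_injective (fun a : MulAut M => (a : M → M))
    fun a b h => MulEquiv.ext (congrFun h)
  haveI : IsMulCommutative (Qs.map act) := ⟨⟨by
    rintro ⟨_, b, hb, rfl⟩ ⟨_, c, hc, rfl⟩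
    exact Subtype.ext (by show act b * act c = act c * act b; rw [← map_mul, hab b hb c hc, map_mul])⟩⟩
  haveI : IsCyclic (Qs.map act) := isCyclic_of_semiregular _ (by
    rintro _ ⟨b, hb, rfl⟩ hne
    exact hsemi b hb hne)
  have := commute_of_cyclic (hp.map act) (γ := act g) (by
    rintro _ ⟨b, hb, rfl⟩
    exact ⟨_, hgQ b hb, by rw [map_mul, map_mul, map_inv]⟩)
    (hcop.coprime_dvd_left (orderOf_map_dvd act g)) ⟨z, hz, rfl⟩ hz1
    (by rw [← map_mul, hgz, map_mul]) (act a) ⟨a, ha, rfl⟩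
  rw [map_mul, map_mul, map_mul, map_inv, map_inv, this, mul_inv_cancel_right, mul_inv_cancel]

/-- In a cyclic `p`-group one of two elements is a power of the other. -/
theorem pow_or_pow {Γ : Type u} [Group Γ] [Finite Γ] [IsCyclic Γ] {p : ℕ} [Fact p.Prime] (hp : IsPGroup p Γ)
    (a b : Γ) : a ∈ Subgroup.zpowers b ∨ b ∈ Subgroup.zpowers a := by
  letI : CommGroup Γ := IsCyclic.commGroup
  wlog h : orderOf a ∣ orderOf b generalizing a b
  · refine (this b a ?_).symm
    obtain ⟨i, hi⟩ := IsPGroup.iff_orderOf.mp hp a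
    obtain ⟨j, hj⟩ := IsPGroup.iff_orderOf.mp hp b
    rw [hi, hj] at h ⊢
    exact pow_dvd_pow p (Nat.le_of_lt (Nat.lt_of_not_le fun hle => h (pow_dvd_pow p hle)))
  left
  have hK : Nat.card (powMonoidHom (α := Γ) (orderOf b)).ker = orderOf b := by
    rw [IsCyclic.card_powMonoidHom_ker]
    exact Nat.gcd_eq_right (orderOf_dvd_natCard b)
  rw [Subgroup.eq_of_le_of_card_ge
    (Subgroup.zpowers_le.mpr (show b ∈ (powMonoidHom (α := Γ) (orderOf b)).ker from pow_orderOf_eq_one b))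
    (by rw [hK, Nat.card_zpowers])]
  exact orderOf_dvd_iff_pow_eq_one.mp h

/-- With a minimal derived group the configuration is impossible. -/
theorem Pair.false_of_minimal [Group.IsSolvable G] {X : Subgroup G} [X.Normal] {H Qs R : Subgroup G} {g y : G}
    {q r : ℕ} {A : Set ℕ} (P : Pair X H Qs R g y q r A) (hU : ⁅X, X⁆ ≠ ⊥)
    (hmin : ∀ V : Subgroup G, V.Normal → V ≤ ⁅X, X⁆ → V = ⊥ ∨ V = ⁅X, X⁆) : False := by
  classical
  haveI := Fintype.ofFinite G
  haveI := Fintype.ofFinite X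
  haveI := Fact.mk P.hq
  haveI := Fact.mk P.hr
  set U : Subgroup G := ⁅X, X⁆ with hUdef
  have hUX : U ≤ X := Subgroup.commutator_le_self X
  haveI hUn : U.Normal := Subgroup.commutator_normal X X
  haveI : Nontrivial X := (Subgroup.nontrivial_iff_ne_bot X).mpr fun e => hU (by
    rw [hUdef, e, Subgroup.commutator_bot_left])
  haveI : Group.IsSolvable X := inferInstance
  have hXc : commutator X ≠ ⊤ := (IsSolvable.commutator_lt_top_of_nontrivial X).ne
  haveI : Nontrivial (X →* ℂˣ) := by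
    obtain ⟨a, ha⟩ : ∃ a : X, a ∉ commutator X := by
      by_contra hc
      push Not at hc
      exact hXc (eq_top_iff.mpr fun a _ => hc a)
    obtain ⟨φ, hφ⟩ := Palfy.exists_hom_ne_one' ha
    exact ⟨φ, 1, fun e => hφ (by rw [e]; rfl)⟩
  have habU : ∀ a ∈ U, ∀ b ∈ U, a * b = b * a := by
    have hbot : ⁅U, U⁆ = ⊥ := by
      rcases hmin ⁅U, U⁆ inferInstance (Subgroup.commutator_le_self U) with h | h
      · exact h
      · exfalso
        haveI : Nontrivial U := (Subgroup.nontrivial_iff_ne_bot U).mpr hU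
        refine (IsSolvable.commutator_lt_top_of_nontrivial U).ne ?_
        refine Subgroup.map_injective U.subtype_injective ?_
        rw [Subgroup.map_subtype_commutator, ← MonoidHom.range_eq_map, Subgroup.range_subtype]
        exact h
    rw [Subgroup.commutator_eq_bot_iff_le_centralizer] at hbot
    exact fun a ha b hb => (Subgroup.mem_centralizer_iff.mp (hbot ha) b hb).symm
  haveI : Nontrivial U := (Subgroup.nontrivial_iff_ne_bot U).mpr hU
  -- a dichotomy for central elements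
  have hcent : ∀ z : G, (∀ k ∈ R, k * z = z * k) →
      (∀ x ∈ X, ∀ u ∈ U, z * u = u * z → z * (x * u * x⁻¹) = x * u * x⁻¹ * z) →
      Fpf U z ∨ ∀ u ∈ U, z * u = u * z := by
    intro z hzR hzX
    have hn : (U ⊓ Subgroup.centralizer ({z} : Set G)).Normal := by
      refine Subgroup.normalizer_eq_top_iff.mp (eq_top_iff.mpr (P.gen ▸ sup_le ?_ ?_))
      · intro x hx
        refine Subgroup.mem_normalizer_fintype ?_
        rintro n ⟨hnU, hnz⟩
        refine ⟨hUn.conj_mem n hnU x, Subgroup.mem_centralizer_singleton_iff.mpr ?_⟩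
        exact (hzX x hx n hnU (Subgroup.mem_centralizer_singleton_iff.mp hnz).symm).symm
      · intro k hk
        refine Subgroup.mem_normalizer_fintype ?_
        rintro n ⟨hnU, hnz⟩
        refine ⟨hUn.conj_mem n hnU k, Subgroup.mem_centralizer_singleton_iff.mpr ?_⟩
        have h1 : Commute z k := (hzR k hk).symm
        have h2 : Commute z n := (Subgroup.mem_centralizer_singleton_iff.mp hnz).symm
        exact ((h1.mul_right h2).mul_right h1.inv_right).symm
    rcases hmin _ hn inf_le_left with h | h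
    · exact Or.inl fun u hu e => Subgroup.mem_bot.mp
        (h ▸ ⟨hu, Subgroup.mem_centralizer_singleton_iff.mpr e.symm⟩)
    · exact Or.inr fun u hu =>
        (Subgroup.mem_centralizer_singleton_iff.mp ((h.symm ▸ hu : u ∈ U ⊓ _).2)).symm
  set S := Pair.kerL X H with hSdef
  have hgord : ∃ i, orderOf g = r ^ i := by
    obtain ⟨i, hi⟩ := IsPGroup.iff_orderOf.mp P.gr ⟨g, Subgroup.mem_zpowers g⟩
    exact ⟨i, by rwa [Subgroup.orderOf_mk] at hi⟩
  have hgq : (orderOf g).Coprime q := by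
    obtain ⟨i, hi⟩ := hgord
    rw [hi]
    exact Nat.Coprime.pow_left _ ((Nat.coprime_primes P.hr P.hq).mpr P.hqr.symm)
  have hgz : ∀ z ∈ H, ¬ Fpf X z → g * z = z * g := fun z hz hn => (P.dich z hz).resolve_left hn g P.gH
  have hab : ∀ a ∈ Qs, ∀ b ∈ Qs, a * b = b * a := fun a ha b hb => P.abH a (P.Qle ha) b (P.Qle hb)
  set w := g * y * g⁻¹ * y⁻¹ with hw
  have hwS : w ∉ S := P.fpf_not_kerL hXc P.hy
  -- the `q`-elements: fixed-point-free outside `S`
  have hQS : ∀ z ∈ Qs, ¬ Fpf X z → z ∈ S := by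
    intro z hz hnf
    by_contra hzS
    have hsem : ∀ a ∈ Qs, Palfy.dualAct X a ≠ 1 → ∀ φ : X →* ℂˣ, Palfy.dualAct X a φ = φ → φ = 1 := by
      intro a ha hane φ hφ
      by_contra hne
      exact hane ((P.stab_iff hne (P.Qle ha)).mp hφ).2
    have h1 := commutator_acts_trivially (M := X →* ℂˣ) (Palfy.dualAct X) P.Qp hab P.gQ hgq hsem hz
      (hgz z (P.Qle hz) hnf) (fun e => hzS ⟨P.Qle hz, MonoidHom.mem_ker.mpr e⟩) P.yQ
    exact hwS ⟨P.Qle P.x_mem, h1⟩
  have hSH : S ≤ H := inf_le_left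
  have hScent : ∀ h ∈ S, ∀ k ∈ R, k * h = h * k := fun h hh =>
    (P.dich h hh.1).resolve_left fun hf => P.fpf_not_kerL hXc hf hh
  -- coprime elements trivial on `X / U` and centralizing part of `U`
  have hQcop : ∀ z ∈ Qs, (Nat.card (Subgroup.zpowers z)).Coprime (Nat.card X) := by
    intro z hz
    rw [Nat.card_zpowers]
    obtain ⟨k, hk⟩ := IsPGroup.iff_orderOf.mp P.Qp ⟨z, hz⟩
    rw [Subgroup.orderOf_mk] at hk
    rw [hk]
    exact Nat.Coprime.pow_left k (P.hq.coprime_iff_not_dvd.mpr P.Qcop)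
  have hlift : ∀ z ∈ Qs, z ∈ S → ∀ x ∈ X, ∃ c ∈ X, z * c = c * z ∧ x⁻¹ * c ∈ U := by
    intro z hz hzS x hx
    obtain ⟨c, ⟨hcX, hc⟩, hxc⟩ := coprime_fixed_quotient (A := Subgroup.zpowers z) (K := X) (N := U)
      (fun a _ => Subgroup.mem_normalizer_iff.mpr fun n => ⟨fun h => Subgroup.Normal.conj_mem ‹_› n h a,
        fun h => by simpa [mul_assoc] using Subgroup.Normal.conj_mem ‹X.Normal› _ h a⁻¹⟩)
      (hQcop z hz) (Or.inr inferInstance) hUX
      (by rw [Subgroup.normalizer_eq_top]; exact le_top) (by rw [Subgroup.normalizer_eq_top]; exact le_top)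
      hx (fun a ha => P.comm_mem_of_kerL (Subgroup.zpowers_le.mpr hzS ha) hx)
    exact ⟨c, hcX, Subgroup.mem_centralizer_iff.mp hc z (Subgroup.mem_zpowers z), hxc⟩
  have hQU : ∀ z ∈ Qs, z ∈ S → Fpf U z ∨ ∀ u ∈ U, z * u = u * z := by
    intro z hz hzS
    refine hcent z (hScent z hzS) fun x hx u hu hzu => ?_
    obtain ⟨c, hcX, hzc, hxc⟩ := hlift z hz hzS x hx
    have e : x * u * x⁻¹ = c * u * c⁻¹ := by
      have h1 := habU _ hxc u hu
      calc x * u * x⁻¹ = x * (u * (x⁻¹ * c)) * c⁻¹ := by group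
        _ = x * ((x⁻¹ * c) * u) * c⁻¹ := by rw [h1]
        _ = c * u * c⁻¹ := by group
    rw [e]
    exact ((Commute.mul_right hzc hzu).mul_right (Commute.inv_right hzc)).eq
  letI : CommGroup U := { (inferInstance : Group U) with mul_comm := fun a b => Subtype.ext (habU a a.2 b b.2) }
  let actU : G →* MulAut U := MulAut.conjNormal
  have hactU : ∀ z : G, actU z = 1 ↔ ∀ u ∈ U, z * u = u * z := by
    refine fun z => ⟨fun e u hu => ?_, fun h => MulEquiv.ext fun u => Subtype.ext ?_⟩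
    · have h1 : z * u * z⁻¹ = u := congrArg (fun a : MulAut U => ((a ⟨u, hu⟩ : U) : G)) e
      exact mul_inv_eq_iff_eq_mul.mp h1
    · show z * (u : G) * z⁻¹ = u
      rw [h u u.2, mul_inv_cancel_right]
  have hfpfU : ∀ z : G, Fpf X z → Fpf U z := fun z h u hu => h u (hUX hu)
  have hnt : ∀ z : G, Fpf U z → ¬ ∀ u ∈ U, z * u = u * z := fun z hz h =>
    hU (eq_bot_iff.mpr fun u hu => Subgroup.mem_bot.mpr (hz u hu (h u hu)))
  -- the `q`-part of `S` centralizes `X`
  have hQSX : ∀ z ∈ Qs, z ∈ S → ∀ x ∈ X, z * x = x * z := by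
    intro z hz hzS x hx
    have hU' : ∀ u ∈ U, z * u = u * z := by
      refine (hQU z hz hzS).resolve_left fun hzf => ?_
      have hsemi : ∀ a ∈ Qs, actU a ≠ 1 → ∀ u : U, actU a u = u → u = 1 := by
        intro a ha hane u hu
        have hf : Fpf U a := by
          by_cases hfa : Fpf X a
          · exact hfpfU a hfa
          · exact (hQU a ha (hQS a ha hfa)).resolve_right fun h => hane ((hactU a).mpr h)
        exact Subtype.ext (hf u u.2 (mul_inv_eq_iff_eq_mul.mp (congrArg Subtype.val hu)))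
      have h1 := commutator_acts_trivially actU P.Qp hab P.gQ hgq hsemi hz (hScent z hzS g P.gH)
        (fun e => hnt z hzf ((hactU z).mp e)) P.yQ
      exact hnt w (hfpfU w P.hy) ((hactU w).mp h1)
    obtain ⟨c, -, hzc, hxc⟩ := hlift z hz hzS x hx
    have : z * (c * (x⁻¹ * c)⁻¹) = c * (x⁻¹ * c)⁻¹ * z :=
      (Commute.mul_right hzc (Commute.inv_right (hU' _ hxc))).eq
    simpa [mul_assoc] using this
  -- Thompson: `X` is nilpotent
  haveI hnil : Group.IsNilpotent X := by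
    obtain ⟨k, hk⟩ := IsPGroup.iff_orderOf.mp P.Qp ⟨w, P.x_mem⟩
    rw [Subgroup.orderOf_mk] at hk
    have hex : ∃ i, w ^ q ^ i ∈ S := ⟨k, by rw [← hk, pow_orderOf_eq_one]; exact one_mem _⟩
    obtain ⟨i, hi⟩ : ∃ i, Nat.find hex = i + 1 := Nat.exists_eq_succ_of_ne_zero fun e => hwS (by
      simpa [e] using Nat.find_spec hex)
    set w' := w ^ q ^ i
    have hw' : w' ∉ S := Nat.find_min hex (by omega)
    have hw'Q : w' ∈ Qs := pow_mem P.x_mem _
    have hf : Fpf X w' := by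
      by_contra h
      exact hw' (hQS _ hw'Q h)
    have hwq : w' ^ q ∈ S := by
      rw [← pow_mul, ← pow_succ, ← hi]; exact Nat.find_spec hex
    refine Frob.isNilpotent_of_fpf_prime (MulAut.conjNormal w' : X ≃* X) ?_ P.hq (orderOf_eq_prime ?_ ?_)
    · intro x hx
      have h1 : w' * (x : G) * w'⁻¹ = x := congrArg Subtype.val hx
      exact Subtype.ext (hf x x.2 (mul_inv_eq_iff_eq_mul.mp h1))
    · rw [← map_pow]
      refine MulEquiv.ext fun x => Subtype.ext ?_
      show w' ^ q * (x : G) * (w' ^ q)⁻¹ = x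
      rw [hQSX _ (pow_mem hw'Q q) hwq x x.2, mul_inv_cancel_right]
    · intro e
      obtain ⟨a, ha⟩ := exists_ne (1 : X)
      have h1 : w' * (a : G) * w'⁻¹ = a := congrArg (fun f : MulAut X => ((f a : X) : G)) e
      exact ha (Subtype.ext (hf a a.2 (mul_inv_eq_iff_eq_mul.mp h1)))
  -- so `U` is central
  have hcen : ∀ u ∈ U, ∀ x ∈ X, u * x = x * u := by
    haveI : (U.subgroupOf X).Normal := hUn.comap _
    have hne := inf_center_ne_bot_of_nilpotent (G := X) (N := U.subgroupOf X) (fun e => hU (by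
      rw [Subgroup.subgroupOf_eq_bot] at e
      exact disjoint_self.mp (e.mono_right hUX)))
    set V := U ⊓ Subgroup.centralizer (X : Set G) with hV
    haveI : (Subgroup.centralizer (X : Set G)).Normal := inferInstance
    rcases hmin V inferInstance inf_le_left with h | h
    · exfalso
      refine hne (eq_bot_iff.mpr fun a ha => Subgroup.mem_bot.mpr (Subtype.ext (Subgroup.mem_bot.mp (h ▸ ?_))))
      exact ⟨ha.1, Subgroup.mem_centralizer_iff.mpr fun b hb =>
        congrArg Subtype.val (Subgroup.mem_center_iff.mp ha.2 ⟨b, hb⟩)⟩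
    · intro u hu x hx
      exact (Subgroup.mem_centralizer_iff.mp ((h.symm ▸ hu : u ∈ V).2) x hx).symm
  have hcom : ∀ a ∈ X, ∀ b ∈ X, ⁅a, b⁆ ∈ U := fun a ha b hb => Subgroup.commutator_mem_commutator ha hb
  have hbil : ∀ a ∈ X, ∀ b ∈ X, ∀ c ∈ X, ⁅a * b, c⁆ = ⁅a, c⁆ * ⁅b, c⁆ := by
    intro a ha b hb c hc
    have h1 := hcen _ (hcom b hb c hc) a ha
    calc ⁅a * b, c⁆ = (a * ⁅b, c⁆) * (c * a⁻¹ * c⁻¹) := by simp only [commutatorElement_def]; group
      _ = (⁅b, c⁆ * a) * (c * a⁻¹ * c⁻¹) := by rw [h1]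
      _ = ⁅b, c⁆ * ⁅a, c⁆ := by simp only [commutatorElement_def]; group
      _ = ⁅a, c⁆ * ⁅b, c⁆ := habU _ (hcom b hb c hc) _ (hcom a ha c hc)
  let cm : ∀ c : X, X →* U := fun c =>
    MonoidHom.mk' (fun a => ⟨⁅(a : G), (c : G)⁆, hcom _ a.2 _ c.2⟩)
      fun a b => Subtype.ext (hbil a a.2 b b.2 c c.2)
  -- exponent `p`
  obtain ⟨p, hp, hpd⟩ := Nat.exists_prime_and_dvd (n := Nat.card U) fun e => hU (Subgroup.card_eq_one.mp e)
  haveI := Fact.mk hp
  have hexp : ∀ u ∈ U, u ^ p = 1 := by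
    let V : Subgroup G :=
      { carrier := {u | u ∈ U ∧ u ^ p = 1}
        one_mem' := ⟨one_mem _, one_pow p⟩
        mul_mem' := fun {a b} ha hb => ⟨mul_mem ha.1 hb.1, by
          rw [(show Commute a b from habU a ha.1 b hb.1).mul_pow, ha.2, hb.2, one_mul]⟩
        inv_mem' := fun {a} ha => ⟨inv_mem ha.1, by rw [inv_pow, ha.2, inv_one]⟩ }
    have hVn : V.Normal := ⟨fun n hn k => ⟨hUn.conj_mem n hn.1 k, by rw [_root_.conj_pow, hn.2]; group⟩⟩
    rcases hmin V hVn (fun u hu => hu.1) with h | h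
    · exfalso
      obtain ⟨u, hu⟩ := exists_prime_orderOf_dvd_card' (G := U) p hpd
      have h1 : (u : G) ∈ V := ⟨u.2, by rw [← Subgroup.coe_pow, ← hu, pow_orderOf_eq_one]; rfl⟩
      rw [h, Subgroup.mem_bot] at h1
      rw [show u = 1 from Subtype.ext h1, orderOf_one] at hu
      exact hp.ne_one hu.symm
    · exact fun u hu => (h.symm ▸ hu : u ∈ V).2
  have hSU : ∀ h ∈ S, ∀ u ∈ U, h * u = u * h := by
    intro h hh
    suffices hle : U ≤ Subgroup.centralizer ({h} : Set G) from fun u hu =>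
      (Subgroup.mem_centralizer_singleton_iff.mp (hle hu)).symm
    refine Subgroup.commutator_le.mpr fun a ha b hb => Subgroup.mem_centralizer_singleton_iff.mpr ?_
    refine (mul_inv_eq_iff_eq_mul.mp ?_).symm
    have ca := P.comm_mem_of_kerL hh ha
    have cb := P.comm_mem_of_kerL hh hb
    set u₁ := h * a * h⁻¹ * a⁻¹
    set u₂ := h * b * h⁻¹ * b⁻¹
    have h1 : ⁅u₁ * a, u₂ * b⁆ = ⁅a, b⁆ := by
      have c1 : ∀ x ∈ X, ⁅u₁, x⁆ = 1 := fun x hx => commutatorElement_eq_one_iff_mul_comm.mpr (hcen _ ca x hx)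
      have c2 : ∀ x ∈ X, ⁅x, u₂⁆ = 1 := fun x hx =>
        commutatorElement_eq_one_iff_mul_comm.mpr (hcen _ cb x hx).symm
      rw [hbil _ (hUX ca) a ha _ (mul_mem (hUX cb) hb), c1 _ (mul_mem (hUX cb) hb), one_mul,
        ← commutatorElement_inv, hbil _ (hUX cb) b hb a ha, mul_inv_rev, commutatorElement_inv,
        commutatorElement_inv, c2 a ha, mul_one]
    calc h * ⁅a, b⁆ * h⁻¹ = ⁅u₁ * a, u₂ * b⁆ := by simp only [u₁, u₂, commutatorElement_def]; group
      _ = ⁅a, b⁆ := h1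
  have hcentU : ∀ h ∈ H, ¬ Fpf X h → Fpf U h ∨ ∀ u ∈ U, h * u = u * h := fun h hh hn =>
    hcent h ((P.dich h hh).resolve_left hn) fun x hx u hu e => by
      rw [← hcen u hu x hx, mul_inv_cancel_right]; exact e
  set T : Subgroup G := H ⊓ Subgroup.centralizer (U : Set G) with hTdef
  have memT : ∀ {h : G}, h ∈ T ↔ h ∈ H ∧ ∀ u ∈ U, h * u = u * h := fun {h} =>
    ⟨fun hh => ⟨hh.1, fun u hu => (Subgroup.mem_centralizer_iff.mp hh.2 u hu).symm⟩,
      fun hh => ⟨hh.1, Subgroup.mem_centralizer_iff.mpr fun u hu => (hh.2 u hu).symm⟩⟩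
  have hST : S ≤ T := fun h hh => memT.mpr ⟨hh.1, hSU h hh⟩
  -- stabilisers of nonlinear characters
  have hstabψ : ∀ ψ : IrrCharacter X, (ψ : X → ℂ) 1 ≠ 1 → ∀ h ∈ H,
      conjNormFun X h (ψ : X → ℂ) = (ψ : X → ℂ) → h ∈ T := by
    intro ψ hψ h hh hfix
    have hnf : ¬ Fpf X h := fun hf => hψ (by rw [hf.irr_eq_one ψ.2 hfix])
    refine memT.mpr ⟨hh, (hcentU h hh hnf).resolve_left fun hfU => ?_⟩
    by_cases hhS : h ∈ S
    · exact hnt h hfU (hSU h hhS)
    · refine hnf fun x hx e => hfU x (P.mem_commutator_of_comm hh hhS hx ?_) e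
      rw [e, mul_inv_cancel_right, mul_inv_cancel]; exact one_mem _
  obtain ⟨φ₀, hφ₀⟩ := exists_ne (1 : X →* ℂˣ)
  set m₀ := S.relIndex H with hm₀
  have hm₀A : m₀ ∈ A := by rw [hm₀, hSdef, P.kerL_relIndex hφ₀]; exact P.lin _ hφ₀
  have hout : ∀ ψ : IrrCharacter X, (ψ : X → ℂ) 1 ≠ 1 →
      ∃ h ∈ T, h ∉ S ∧ conjNormFun X h (ψ : X → ℂ) = (ψ : X → ℂ) := by
    intro ψ hψ
    by_contra hc
    push Not at hc
    have hle : inertia X (ψ : X → ℂ) ⊓ H ≤ S := fun h hh => by
      by_contra hn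
      exact hc h (hstabψ ψ hψ h hh.2 hh.1) hn hh.1
    obtain ⟨m, hm, hd⟩ := P.deg ψ ψ.2 fun e => hψ (by rw [e])
    have h1 : m₀ ∣ (inertia X (ψ : X → ℂ)).relIndex H := by
      rw [← Subgroup.inf_relIndex_right (inertia X (ψ : X → ℂ))]
      exact Subgroup.relIndex_dvd_of_le_left H hle
    rw [← P.anti m₀ hm₀A m hm (h1.trans ((dvd_mul_right _ _).trans hd))] at hd
    obtain ⟨c, hc'⟩ := h1
    rw [hc'] at hd
    have h2 : c * charDegree (ψ : X → ℂ) ∣ 1 :=
      Nat.dvd_of_mul_dvd_mul_left (k := m₀) (zero_lt_one.trans (P.big _ hm₀A)) (by rwa [mul_one, ← mul_assoc])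
    exact hψ ((charDegree_eq_one_iff ψ.2).mp (Nat.dvd_one.mp ((dvd_mul_left _ c).trans h2)))
  -- fixed characters of elements of `T` outside `S`
  set u := Nat.card U with hu
  set v := (commutator X).index with hv
  have hcardc : Nat.card (commutator X) = u := by
    rw [hu, hUdef, ← Subgroup.map_subtype_commutator]
    exact (Nat.card_congr (Subgroup.equivMapOfInjective _ _ X.subtype_injective).toEquiv)
  let F : G → Finset (IrrCharacter X) := fun h =>
    Finset.univ.filter fun χ : IrrCharacter X => conjNormFun X h (χ : X → ℂ) = (χ : X → ℂ)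
  have hFcard : ∀ h ∈ T, h ∉ S → (F h).card = u := by
    intro h hh hhS
    rw [← Fintype.card_subtype, ← Nat.card_eq_fintype_card, card_fixed_irr, ← hcardc]
    have hfixc : ∀ a : commutator X,
        ConjClasses.map (MulAut.conjNormal h : X ≃* X).toMonoidHom (ConjClasses.mk (a : X)) =
          ConjClasses.mk (a : X) := by
      intro a
      show ConjClasses.mk _ = _
      congr 1
      refine Subtype.ext ?_
      show h * ((a : X) : G) * h⁻¹ = _
      rw [(memT.mp hh).2 _ ((Pair.mem_commutator_iff X _).mpr a.2), mul_inv_cancel_right]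
    symm
    refine Nat.card_eq_of_bijective (fun a => ⟨ConjClasses.mk (a : X), hfixc a⟩) ⟨fun a b e => ?_, ?_⟩
    · obtain ⟨c, hc⟩ := isConj_iff.mp (ConjClasses.mk_eq_mk_iff_isConj.mp (congrArg Subtype.val e))
      have h1 : (c : G) * ((a : X) : G) * (c : G)⁻¹ = ((b : X) : G) := congrArg Subtype.val hc
      rw [← hcen _ ((Pair.mem_commutator_iff X _).mpr a.2) c c.2, mul_inv_cancel_right] at h1
      exact Subtype.ext (Subtype.ext h1)
    · rintro ⟨C, hC⟩
      obtain ⟨x, rfl⟩ := ConjClasses.mk_surjective C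
      obtain ⟨c, hc⟩ := isConj_iff.mp (ConjClasses.mk_eq_mk_iff_isConj.mp hC)
      have h1 : (c : G) * (h * x * h⁻¹) * (c : G)⁻¹ = x := congrArg Subtype.val hc
      have hx : (x : G) ∈ U := by
        refine P.mem_commutator_of_comm hh.1 hhS x.2 ?_
        have h2 : h * (x : G) * h⁻¹ * (x : G)⁻¹ = ⁅(c : G)⁻¹, (x : G)⁆ := by
          calc h * (x : G) * h⁻¹ * (x : G)⁻¹
              = (c : G)⁻¹ * ((c : G) * (h * x * h⁻¹) * (c : G)⁻¹) * c * (x : G)⁻¹ := by group
            _ = _ := by rw [h1, commutatorElement_def, inv_inv]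
        rw [h2]
        exact hcom _ (inv_mem c.2) _ x.2
      exact ⟨⟨x, (Pair.mem_commutator_iff X x).mp hx⟩, rfl⟩
  -- `T` outside `S` and prime-power parts
  have hTH : T ≤ H := inf_le_left
  have hnfT : ∀ h ∈ T, ¬ Fpf X h := fun h hh hf => hnt h (hfpfU h hf) (memT.mp hh).2
  have hV1 : ∀ {h : G}, h ∈ T → h ∉ S → ∀ {ℓ : ℕ} [Fact ℓ.Prime], IsPGroup ℓ (Subgroup.zpowers h) → ℓ ≠ p := by
    intro h hh hhS ℓ _ hℓ e
    subst e
    -- `ℓ` divides both `v` and `v - 1`
    have hpv : ℓ ∣ v := by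
      by_contra hnd
      refine hU (eq_bot_iff.mpr (Subgroup.commutator_le.mpr fun a ha b hb => Subgroup.mem_bot.mpr ?_))
      have hav : a ^ v ∈ U := by
        have := (Pair.mem_commutator_iff X _).mpr (Subgroup.pow_index_mem (commutator X) (⟨a, ha⟩ : X))
        simpa using this
      have h1 : ⁅a, b⁆ ^ v = 1 := by
        have := congrArg Subtype.val (map_pow (cm ⟨b, hb⟩) ⟨a, ha⟩ v)
        simp only [cm, MonoidHom.mk'_apply, Subgroup.coe_pow] at this
        rw [← this]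
        exact commutatorElement_eq_one_iff_mul_comm.mpr (hcen _ hav b hb)
      have h2 := pow_gcd_eq_one.mpr ⟨h1, hexp _ (hcom a ha b hb)⟩
      rwa [Nat.Coprime.gcd_eq_one ((hp.coprime_iff_not_dvd.mpr hnd).symm), pow_one] at h2
    letI : MulAction (Subgroup.zpowers h) (X →* ℂˣ) :=
      { smul := fun t φ => Palfy.dualAct X (t : G) φ
        one_smul := fun φ => by
          show Palfy.dualAct X ((1 : Subgroup.zpowers h) : G) φ = φ
          rw [Subgroup.coe_one, map_one]; rfl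
        mul_smul := fun a b φ => by
          show Palfy.dualAct X ((a * b : Subgroup.zpowers h) : G) φ = _
          rw [Subgroup.coe_mul, map_mul]; rfl }
    have hfx : MulAction.fixedPoints (Subgroup.zpowers h) (X →* ℂˣ) = {1} := by
      ext φ
      rw [Set.mem_singleton_iff]
      refine ⟨fun hφ => ?_, fun e t => by rw [e]; exact map_one (Palfy.dualAct X (t : G))⟩
      by_contra hne
      exact hhS ((P.stab_iff hne hh.1).mp (hφ ⟨h, Subgroup.mem_zpowers h⟩))
    have h3 := hℓ.card_modEq_card_fixedPoints (α := X →* ℂˣ)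
    rw [card_linear_hom, hfx, Nat.card_coe_set_eq, Set.ncard_singleton] at h3
    have h4 : (1 : ℕ) ≡ 0 [MOD ℓ] := h3.symm.trans (Nat.modEq_zero_iff_dvd.mpr hpv)
    exact hp.ne_one (Nat.dvd_one.mp (Nat.modEq_zero_iff_dvd.mp h4))
  have hcentX : ∀ z ∈ S, ∀ {ℓ : ℕ} [Fact ℓ.Prime], IsPGroup ℓ (Subgroup.zpowers z) → ℓ ≠ p →
      ∀ x ∈ X, z * x = x * z := by
    intro z hz ℓ _ hℓ hne x hx
    set d := z * x * z⁻¹ * x⁻¹ with hd
    have hdU : d ∈ U := P.comm_mem_of_kerL hz hx
    have hit : ∀ n : ℕ, z ^ n * x * (z ^ n)⁻¹ = d ^ n * x := by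
      intro n
      induction n with
      | zero => simp
      | succ n ih =>
        have hzd : z * d ^ n = d ^ n * z := hSU z hz _ (pow_mem hdU n)
        calc z ^ (n + 1) * x * (z ^ (n + 1))⁻¹ = z * (z ^ n * x * (z ^ n)⁻¹) * z⁻¹ := by
              rw [pow_succ']; group
          _ = (z * d ^ n) * (x * z⁻¹) := by rw [ih]; group
          _ = (d ^ n * z) * (x * z⁻¹) := by rw [hzd]
          _ = d ^ n * d * x := by rw [hd]; group
          _ = _ := by rw [pow_succ]
    have h1 := hit (orderOf z)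
    rw [pow_orderOf_eq_one, one_mul, inv_one, mul_one, right_eq_mul] at h1
    have h2 := pow_gcd_eq_one.mpr ⟨h1, hexp d hdU⟩
    obtain ⟨i, hi⟩ := IsPGroup.iff_orderOf.mp hℓ ⟨z, Subgroup.mem_zpowers z⟩
    rw [Subgroup.orderOf_mk] at hi
    rw [Nat.Coprime.gcd_eq_one (hi ▸ Nat.Coprime.pow_left i
      ((Nat.coprime_primes Fact.out hp).mpr hne)), pow_one] at h2
    exact mul_inv_eq_iff_eq_mul.mp (mul_inv_eq_one.mp h2)
  have hFpow : ∀ (s : G) (χ : IrrCharacter X), χ ∈ F s → ∀ t ∈ Subgroup.zpowers s, χ ∈ F t := by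
    intro s χ hχ t ht
    simp only [F, Finset.mem_filter, Finset.mem_univ, true_and] at hχ ⊢
    exact (mem_inertia X).mp (Subgroup.zpowers_le.mpr ((mem_inertia X).mpr hχ) ht)
  have hFle : ∀ s t, s ∈ T → s ∉ S → t ∈ T → t ∉ S → t ∈ Subgroup.zpowers s → F s = F t := by
    intro s t hs hsS ht htS hts
    exact Finset.eq_of_subset_of_card_le (fun χ hχ => hFpow s χ hχ t hts)
      (by rw [hFcard s hs hsS, hFcard t ht htS])
  have hFeq : ∀ s t, s ∈ T → s ∉ S → t ∈ T → t ∉ S → ∀ ℓ m : ℕ, ℓ.Prime → m.Prime →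
      IsPGroup ℓ (Subgroup.zpowers s) → IsPGroup m (Subgroup.zpowers t) → F s = F t := by
    intro s t hs hsS ht htS ℓ m hℓ hm hps hpt
    haveI := Fact.mk hℓ
    haveI := Fact.mk hm
    have hcomm : Commute s t := P.abH s hs.1 t ht.1
    rcases eq_or_ne ℓ m with rfl | hlm
    · -- the same prime: one is a power of the other up to an element centralizing `X`
      set Γ := Subgroup.zpowers (Palfy.dualAct X s) ⊔ Subgroup.zpowers (Palfy.dualAct X t)
      haveI : Finite (MulAut (X →* ℂˣ)) := Finite.of_injective (fun a : MulAut (X →* ℂˣ) => (a : _ → _))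
        fun a b h => MulEquiv.ext (congrFun h)
      have hΓ : Γ = (Subgroup.zpowers s ⊔ Subgroup.zpowers t).map (Palfy.dualAct X) := by
        rw [Subgroup.map_sup, MonoidHom.map_zpowers, MonoidHom.map_zpowers]
      have hL : IsPGroup ℓ (Subgroup.zpowers s ⊔ Subgroup.zpowers t : Subgroup G) := by
        refine IsPGroup.to_sup_of_normal_right' hps hpt ?_
        refine Subgroup.zpowers_le.mpr (Subgroup.mem_normalizer_fintype ?_)
        rintro n ⟨j, rfl⟩
        show s * t ^ j * s⁻¹ ∈ _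
        rw [(hcomm.zpow_right j).eq, mul_inv_cancel_right]
        exact ⟨j, rfl⟩
      have hLH : Subgroup.zpowers s ⊔ Subgroup.zpowers t ≤ H :=
        sup_le (Subgroup.zpowers_le.mpr hs.1) (Subgroup.zpowers_le.mpr ht.1)
      haveI : IsMulCommutative Γ := ⟨⟨by
        rintro ⟨a, ha⟩ ⟨b, hb⟩
        rw [hΓ] at ha hb
        obtain ⟨a', ha', rfl⟩ := ha
        obtain ⟨b', hb', rfl⟩ := hb
        refine Subtype.ext ?_
        show Palfy.dualAct X a' * Palfy.dualAct X b' = Palfy.dualAct X b' * Palfy.dualAct X a'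
        rw [← map_mul, P.abH a' (hLH ha') b' (hLH hb'), map_mul]⟩⟩
      haveI : IsCyclic Γ := isCyclic_of_semiregular (M := X →* ℂˣ) Γ (by
        intro a ha hane φ hφ
        rw [hΓ] at ha
        obtain ⟨a', ha', rfl⟩ := ha
        by_contra hne
        exact hane ((P.stab_iff hne (hLH ha')).mp hφ).2)
      have hΓp : IsPGroup ℓ Γ := hΓ ▸ hL.map _
      have key : ∀ s t, s ∈ T → s ∉ S → t ∈ T → t ∉ S → IsPGroup ℓ (Subgroup.zpowers s) →
          IsPGroup ℓ (Subgroup.zpowers t) → Palfy.dualAct X t ∈ Subgroup.zpowers (Palfy.dualAct X s) →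
          F s = F t := by
        intro s t hs hsS ht htS hps hpt hmem
        obtain ⟨i, hi⟩ := hmem
        set z := t * (s ^ i)⁻¹
        have hzH : z ∈ H := mul_mem (hTH ht) (inv_mem (zpow_mem (hTH hs) i))
        have hzS : z ∈ S := ⟨hzH, by
          show Palfy.dualAct X z = 1
          rw [map_mul, map_inv, map_zpow]
          exact mul_inv_eq_one.mpr hi.symm⟩
        have hzp : IsPGroup ℓ (Subgroup.zpowers z) := by
          have hc : Commute t ((s ^ i)⁻¹) := P.abH t (hTH ht) _ (inv_mem (zpow_mem (hTH hs) i))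
          obtain ⟨a, ha⟩ := IsPGroup.iff_orderOf.mp hpt ⟨t, Subgroup.mem_zpowers t⟩
          obtain ⟨b, hb⟩ := IsPGroup.iff_orderOf.mp hps ⟨(s ^ i)⁻¹, inv_mem (zpow_mem (Subgroup.mem_zpowers s) i)⟩
          rw [Subgroup.orderOf_mk] at ha hb
          have hd := hc.orderOf_mul_dvd_mul_orderOf
          rw [ha, hb, ← pow_add] at hd
          obtain ⟨c, -, hc'⟩ := (Nat.dvd_prime_pow hℓ).mp hd
          exact IsPGroup.of_card (n := c) (by rw [Nat.card_zpowers]; exact hc')
        have hzX := hcentX z hzS hzp (hV1 hs hsS hps)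
        refine Finset.eq_of_subset_of_card_le (fun χ hχ => ?_) (by rw [hFcard s hs hsS, hFcard t ht htS])
        simp only [F, Finset.mem_filter, Finset.mem_univ, true_and] at hχ ⊢
        rw [show t = z * s ^ i from (inv_mul_cancel_right t (s ^ i)).symm, ← mem_inertia X]
        refine mul_mem ((mem_inertia X).mpr (funext fun x => ?_)) (zpow_mem ((mem_inertia X).mpr hχ) i)
        show (χ : X → ℂ) _ = _
        exact congrArg (χ : X → ℂ) (Subtype.ext (by
          show z * (x : G) * z⁻¹ = x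
          rw [hzX x x.2, mul_inv_cancel_right]))
      rcases pow_or_pow hΓp ⟨Palfy.dualAct X t, Subgroup.mem_sup_right (Subgroup.mem_zpowers _)⟩
          ⟨Palfy.dualAct X s, Subgroup.mem_sup_left (Subgroup.mem_zpowers _)⟩ with ⟨i, hi⟩ | ⟨i, hi⟩
      · exact key s t hs hsS ht htS hps hpt ⟨i, by simpa using congrArg Subtype.val hi⟩
      · exact (key t s ht htS hs hsS hpt hps ⟨i, by simpa using congrArg Subtype.val hi⟩).symm
    · -- different primes
      obtain ⟨a, ha⟩ := IsPGroup.iff_orderOf.mp hps ⟨s, Subgroup.mem_zpowers s⟩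
      obtain ⟨b, hb⟩ := IsPGroup.iff_orderOf.mp hpt ⟨t, Subgroup.mem_zpowers t⟩
      rw [Subgroup.orderOf_mk] at ha hb
      have hco : (orderOf s).Coprime (orderOf t) := by
        rw [ha, hb]; exact Nat.Coprime.pow _ _ ((Nat.coprime_primes hℓ hm).mpr hlm)
      have hs' : ∀ {s t : G}, Commute s t → (orderOf s).Coprime (orderOf t) → s ∈ Subgroup.zpowers (s * t) := by
        intro s t hc hco
        have h1 : (s * t) ^ orderOf t = s ^ orderOf t := by rw [hc.mul_pow, pow_orderOf_eq_one, mul_one]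
        obtain ⟨j, hj⟩ := exists_pow_eq_self_of_coprime hco.symm
        rw [← h1] at hj
        have h2 := pow_mem (pow_mem (Subgroup.mem_zpowers (s * t)) (orderOf t)) j
        rwa [hj] at h2
      have hst1 : s ∈ Subgroup.zpowers (s * t) := hs' hcomm hco
      have hst2 : t ∈ Subgroup.zpowers (s * t) := by rw [hcomm.eq]; exact hs' hcomm.symm hco.symm
      have hstT : s * t ∈ T := mul_mem hs ht
      have hstS : s * t ∉ S := fun h => hsS (Subgroup.zpowers_le.mpr h hst1)
      rw [← hFle _ s hstT hstS hs hsS hst1, ← hFle _ t hstT hstS ht htS hst2]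
  have hparts : ∀ h ∈ T, h ∉ S → ∃ (h' : G) (ℓ : ℕ), ℓ.Prime ∧ h' ∈ Subgroup.zpowers h ∧ h' ∈ T ∧ h' ∉ S ∧
      IsPGroup ℓ (Subgroup.zpowers h') := by
    intro h hh hhS
    set ρh := Palfy.dualAct X h
    have hne : orderOf ρh ≠ 1 := fun e => hhS ⟨hh.1, orderOf_eq_one_iff.mp e⟩
    obtain ⟨ℓ, hℓ, hℓd⟩ := Nat.exists_prime_and_dvd hne
    set n := orderOf h / ℓ ^ (orderOf h).factorization ℓ
    refine ⟨h ^ n, ℓ, hℓ, pow_mem (Subgroup.mem_zpowers h) n, pow_mem hh n, fun hS' => ?_, ?_⟩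
    · have h1 : ρh ^ n = 1 := by rw [← map_pow]; exact hS'.2
      exact Nat.not_dvd_ordCompl hℓ (orderOf_pos h).ne' (hℓd.trans (orderOf_dvd_of_pow_eq_one h1))
    · refine IsPGroup.of_card (n := (orderOf h).factorization ℓ) ?_
      rw [Nat.card_zpowers, orderOf_pow h, Nat.gcd_eq_right (Nat.ordCompl_dvd _ _)]
      exact Nat.div_div_self (Nat.ordProj_dvd _ _) (orderOf_pos h).ne'
  -- count the classes
  have hvpos : 1 < v := Subgroup.one_lt_index_of_ne_top hXc
  have hnonlin : ∃ ψ : IrrCharacter X, (ψ : X → ℂ) 1 ≠ 1 := by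
    by_contra hc
    push Not at hc
    refine hU (eq_bot_iff.mpr (Subgroup.commutator_le.mpr fun a ha b hb => Subgroup.mem_bot.mpr
      (commutatorElement_eq_one_iff_mul_comm.mpr ?_)))
    exact congrArg Subtype.val (commutative_iff_degree_one.mpr hc ⟨a, ha⟩ ⟨b, hb⟩)
  obtain ⟨ψ₀, hψ₀⟩ := hnonlin
  obtain ⟨t₀, ht₀T, ht₀S, -⟩ := hout ψ₀ hψ₀
  obtain ⟨s, ℓ₀, hℓ₀, -, hsT, hsS, hsp⟩ := hparts t₀ ht₀T ht₀S
  have hall : ∀ ψ : IrrCharacter X, (ψ : X → ℂ) 1 ≠ 1 → ψ ∈ F s := by
    intro ψ hψ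
    obtain ⟨h, hh, hhS, hfix⟩ := hout ψ hψ
    obtain ⟨h', ℓ, hℓ, hh'z, hh'T, hh'S, hh'p⟩ := hparts h hh hhS
    rw [hFeq s h' hsT hsS hh'T hh'S ℓ₀ ℓ hℓ₀ hℓ hsp hh'p]
    exact hFpow h ψ (by simpa [F] using hfix) h' hh'z
  have hk : Nat.card (ConjClasses X) + 1 = v + u := by
    rw [← card_irr_eq_card_conjClasses, Nat.card_eq_fintype_card, ← Finset.card_univ]
    set Lin := Finset.univ.filter fun χ : IrrCharacter X => (χ : X → ℂ) 1 = 1 with hLin
    have h1 : (Finset.univ : Finset (IrrCharacter X)) = Lin ∪ F s := by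
      ext χ
      simp only [Finset.mem_univ, true_iff, Finset.mem_union]
      by_cases hl : (χ : X → ℂ) 1 = 1
      · exact Or.inl (Finset.mem_filter.mpr ⟨Finset.mem_univ _, hl⟩)
      · exact Or.inr (hall χ hl)
    have h2 : Lin ∩ F s = {⟨fun _ => 1, isIrrCharacter_one⟩} := by
      refine Finset.eq_singleton_iff_unique_mem.mpr ⟨?_, fun χ hχ => ?_⟩
      · simp [Lin, F]
        rfl
      · simp only [Lin, F, Finset.mem_inter, Finset.mem_filter, Finset.mem_univ, true_and] at hχ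
        obtain ⟨φ, hφ⟩ := exists_hom_of_degree_one (isCharacter_of_irr χ.2) hχ.1
        have h1 : φ = 1 := by
          by_contra hne
          refine hsS ((P.stab_iff hne hsT.1).mp ?_)
          show s ∈ Palfy.stab (Palfy.dualAct X) φ
          rw [Palfy.stab_eq_inertia, mem_inertia, ← hφ]
          exact hχ.2
        refine Subtype.ext ?_
        rw [hφ, h1]
        rfl
    have h3 := Finset.card_union_add_card_inter Lin (F s)
    rw [← h1, h2, Finset.card_singleton, hFcard s hsT hsS] at h3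
    rw [h3]
    congr 1
    rw [hv, ← card_linear, Nat.card_eq_fintype_card, Fintype.card_subtype]
  -- every coset outside `U` is a class
  have hclass : ∀ x : X, x ∉ commutator X → ∀ z ∈ commutator X, IsConj x (z * x) := by
    intro x hx z hz
    by_contra hnc
    let π : ConjClasses X → ConjClasses (X ⧸ commutator X) := ConjClasses.map (QuotientGroup.mk' _)
    let qm : X → X ⧸ commutator X := QuotientGroup.mk
    have hqz : qm (z * x) = qm x := by
      simp only [qm, QuotientGroup.mk_mul, (QuotientGroup.eq_one_iff z).mpr hz, one_mul]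
    obtain ⟨w₀, hw₀, hw₀n⟩ : ∃ w₀, qm w₀ = qm x ∧ ¬ IsConj (qm x).out w₀ := by
      by_cases h : IsConj (qm x).out x
      · exact ⟨z * x, hqz, fun h' => hnc (h.symm.trans h')⟩
      · exact ⟨x, rfl, h⟩
    have hqeq : ∀ a b : X, IsConj a b → qm a = qm b := by
      intro a b hab'
      obtain ⟨c, rfl⟩ := isConj_iff.mp hab'
      show qm a = (c * a * c⁻¹ : X)
      simp only [qm, QuotientGroup.mk_mul, QuotientGroup.mk_inv]
      show _ = _
      rw [show (c : X ⧸ commutator X) * (a : X ⧸ commutator X) = (a : X ⧸ commutator X) * c from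
        mul_comm (G := Abelianization X) _ _, mul_inv_cancel_right]
    let ι : commutator X ⊕ ({c : X ⧸ commutator X // c ≠ 1} ⊕ PUnit.{u + 1}) → ConjClasses X :=
      Sum.elim (fun a => ConjClasses.mk (a : X))
        (Sum.elim (fun c => ConjClasses.mk c.1.out) fun _ => ConjClasses.mk w₀)
    have hqa : ∀ a : commutator X, qm (a : X) = 1 := fun a => (QuotientGroup.eq_one_iff _).mpr a.2
    have hqx : qm x ≠ 1 := fun e => hx ((QuotientGroup.eq_one_iff x).mp e)
    have hι : Function.Injective ι := by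
      intro i j e
      rcases i with a | c | ⟨⟩ <;> rcases j with b | d | ⟨⟩ <;>
        simp only [ι, Sum.elim_inl, Sum.elim_inr, ConjClasses.mk_eq_mk_iff_isConj] at e
      · obtain ⟨c, hc⟩ := isConj_iff.mp e
        have h1 : (c : G) * ((a : X) : G) * (c : G)⁻¹ = ((b : X) : G) := congrArg Subtype.val hc
        rw [← hcen _ ((Pair.mem_commutator_iff X _).mpr a.2) c c.2, mul_inv_cancel_right] at h1
        rw [show a = b from Subtype.ext (Subtype.ext h1)]
      · exact absurd ((QuotientGroup.out_eq' d.1).symm.trans ((hqeq _ _ e).symm.trans (hqa a))) d.2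
      · exact absurd (hw₀.symm.trans ((hqeq _ _ e).symm.trans (hqa a))) hqx
      · exact absurd ((QuotientGroup.out_eq' c.1).symm.trans ((hqeq _ _ e).trans (hqa b))) c.2
      · rw [show c = d from Subtype.ext ((QuotientGroup.out_eq' c.1).symm.trans
          ((hqeq _ _ e).trans (QuotientGroup.out_eq' d.1)))]
      · have h1 : c.1 = qm x := (QuotientGroup.out_eq' c.1).symm.trans ((hqeq _ _ e).trans hw₀)
        exact absurd (h1 ▸ e) hw₀n
      · exact absurd (hw₀.symm.trans ((hqeq _ _ e).trans (hqa b))) hqx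
      · have h1 : d.1 = qm x := (QuotientGroup.out_eq' d.1).symm.trans ((hqeq _ _ e).symm.trans hw₀)
        exact absurd (h1 ▸ e.symm) hw₀n
      · rfl
    have h1 := Nat.card_le_card_of_injective ι hι
    haveI := Fintype.ofFinite (X ⧸ commutator X)
    have hsub : Nat.card {c : X ⧸ commutator X // c ≠ 1} = Nat.card (X ⧸ commutator X) - 1 := by
      simp only [Nat.card_eq_fintype_card, Fintype.card_subtype_compl, Fintype.card_subtype_eq]
    rw [Nat.card_sum, Nat.card_sum, hcardc, hsub, Nat.card_unique (α := PUnit.{u + 1})] at h1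
    rw [← Subgroup.index_eq_card (commutator X), ← hv] at h1
    omega
  -- consequences
  obtain ⟨x₁, hx₁⟩ : ∃ a : X, a ∉ commutator X := by
    by_contra hc
    push Not at hc
    exact hXc (eq_top_iff.mpr fun a _ => hc a)
  have hu1 : 1 < u := (Subgroup.one_lt_card_iff_ne_bot U).mpr hU
  have huv : u < v := by
    have hsurj : Function.Surjective (cm x₁) := by
      rintro ⟨z, hz⟩
      have hz' : (⟨z, hUX hz⟩ : X) ∈ commutator X := (Pair.mem_commutator_iff X _).mp hz
      obtain ⟨c, hc⟩ := isConj_iff.mp (hclass x₁ hx₁ ⟨z, hUX hz⟩ hz')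
      refine ⟨c, Subtype.ext ?_⟩
      have h1 : (c : G) * x₁ * (c : G)⁻¹ = z * x₁ := congrArg Subtype.val hc
      show ⁅(c : G), (x₁ : G)⁆ = z
      rw [commutatorElement_def, h1, mul_inv_cancel_right]
    have hker : commutator X < (cm x₁).ker := by
      refine lt_of_le_of_ne (fun a ha => ?_) fun e => hx₁ (e ▸ (Subtype.ext ?_ : cm x₁ x₁ = 1))
      · exact Subtype.ext (commutatorElement_eq_one_iff_mul_comm.mpr
          (hcen _ ((Pair.mem_commutator_iff X a).mpr ha) x₁ x₁.2))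
      · exact commutatorElement_self _
    have h1 := Subgroup.index_ker (cm x₁)
    rw [MonoidHom.range_eq_top.mpr hsurj, Subgroup.card_top, ← hu] at h1
    have h2 := Subgroup.index_strictAnti hker
    rw [h1] at h2
    exact h2
  -- `X` is a `p`-group
  have hXpow : ∀ x : X, x ^ p ∈ commutator X := by
    intro x
    by_contra hn
    have hcz : ∀ c : X, c * x ^ p * c⁻¹ = x ^ p := by
      intro c
      have h1 : ⁅(x : G) ^ p, (c : G)⁆ = 1 := by
        have := congrArg Subtype.val (map_pow (cm c) x p)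
        simp only [cm, MonoidHom.mk'_apply, Subgroup.coe_pow] at this
        rw [this, hexp _ (hcom _ x.2 _ c.2)]
      refine Subtype.ext ?_
      push_cast
      rw [← commutatorElement_eq_one_iff_mul_comm.mp h1, mul_inv_cancel_right]
    haveI : Nontrivial (commutator X) := Finite.one_lt_card_iff_nontrivial.mp (hcardc ▸ hu1)
    obtain ⟨z, hz⟩ := exists_ne (1 : commutator X)
    obtain ⟨c, hc⟩ := isConj_iff.mp (hclass _ hn z z.2)
    rw [hcz c] at hc
    exact hz (Subtype.ext (right_eq_mul.mp hc))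
  have hXp : IsPGroup p X := fun x => ⟨2, Subtype.ext (by
    rw [pow_two, pow_mul, Subgroup.coe_pow, Subgroup.coe_one]
    exact hexp _ (by simpa using (Pair.mem_commutator_iff X _).mpr (hXpow x)))⟩
  obtain ⟨α, hα⟩ : ∃ α, v = p ^ α := by
    obtain ⟨i, -, hi⟩ := (Nat.dvd_prime_pow hp).mp
      ((IsPGroup.iff_card.mp hXp).choose_spec ▸ Subgroup.index_dvd_card (commutator X))
    exact ⟨i, hi⟩
  have hUp : IsPGroup p U := fun z => ⟨1, Subtype.ext (by rw [pow_one]; exact hexp z z.2)⟩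
  obtain ⟨γ, hγ⟩ := IsPGroup.iff_card.mp hUp
  -- the dual of `U`
  have habU' : ∀ a b : U, a * b = b * a := fun a b => mul_comm a b
  have hTstab : ∀ ν : U →* ℂˣ, ν ≠ 1 → ∀ h ∈ H, (Palfy.dualAct U h ν = ν ↔ h ∈ T) := by
    intro ν hν h hh
    refine ⟨fun e => memT.mpr ⟨hh, ?_⟩, fun hT' => ?_⟩
    · by_cases hf : Fpf X h
      · exact absurd ((hfpfU h hf).hom_eq_one e) hν
      · exact (hcentU h hh hf).resolve_left fun hfU => hν (hfU.hom_eq_one e)
    · have h1 : h ∈ (Palfy.dualAct U).ker := by rw [Palfy.ker_dualAct U habU]; exact hT'.2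
      rw [MonoidHom.mem_ker] at h1
      rw [h1]; rfl
  have horbU : ∀ ν : U →* ℂˣ, ∃ h ∈ H, Palfy.dualAct U g ν = Palfy.dualAct U h ν := by
    intro ν
    set UX := U.subgroupOf X
    haveI : UX.Normal := hUn.comap _
    haveI := Fintype.ofFinite UX
    let ν' : UX →* ℂˣ := ν.comp (Subgroup.subgroupOfEquivOfLe hUX).toMonoidHom
    obtain ⟨ψ, hψ, hc⟩ := exists_irr_above (Palfy.isIrr_hom ν')
    have hres := clifford_invariant UX hψ (Palfy.isIrr_hom ν') hc (fun c => funext fun a => by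
      show (ν' _ : ℂ) = ν' a
      congr 2
      refine Subtype.ext (Subtype.ext ?_)
      show (c : G) * ((a : X) : G) * (c : G)⁻¹ = _
      rw [← hcen _ (Subgroup.mem_subgroupOf.mp a.2) c c.2, mul_inv_cancel_right])
    have hval : ∀ (z : U), ψ ⟨z, hUX z.2⟩ = classInner (fun n : UX => ψ n) (fun n => (ν' n : ℂ)) * (ν z : ℂ) := by
      intro z
      exact congrFun hres ⟨⟨z, hUX z.2⟩, z.2⟩
    obtain ⟨h, hh, e⟩ := P.inv ψ hψ g⁻¹
    refine ⟨h⁻¹, inv_mem hh, MonoidHom.ext fun z => Units.ext ?_⟩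
    rw [Palfy.dualAct_apply, Palfy.dualAct_apply]
    refine mul_left_cancel₀ hc ?_
    rw [← hval, ← hval]
    refine (congrArg ψ (Subtype.ext ?_)).trans
      ((congrFun e ⟨z, hUX z.2⟩).trans (congrArg ψ (Subtype.ext ?_))) <;> simp [mul_assoc]
  have horbL : ∀ φ : X →* ℂˣ, ∃ h ∈ H, Palfy.dualAct X g φ = Palfy.dualAct X h φ := by
    intro φ
    obtain ⟨h, hh, e⟩ := P.inv _ (Palfy.isIrr_hom φ) g⁻¹
    refine ⟨h⁻¹, inv_mem hh, MonoidHom.ext fun z => Units.ext ?_⟩
    rw [Palfy.dualAct_apply, Palfy.dualAct_apply]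
    refine (congrArg (fun a => (φ a : ℂ)) (Subtype.ext ?_)).trans
      ((congrFun e z).trans (congrArg (fun a => (φ a : ℂ)) (Subtype.ext ?_))) <;> simp [mul_assoc]
  have hrS : ¬ r ∣ S.relIndex H := P.rA m₀ hm₀A
  have hrT : ¬ r ∣ T.relIndex H := fun hd => hrS (hd.trans (Subgroup.relIndex_dvd_of_le_left H hST))
  have cV := orbit_count (M := X →* ℂˣ) (Palfy.dualAct X) P.abH hSH (fun φ hφ h hh => P.stab_iff hφ hh)
    (fun h hh => P.g_mem hh) P.gr hrS horbL
  have cU := orbit_count (M := U →* ℂˣ) (Palfy.dualAct U) P.abH hTH hTstab (fun h hh => P.g_mem hh) P.gr hrT horbU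
  -- commutators with `g` lie in `T` only if they lie in `S`
  have hTS : ∀ a ∈ H, g * a * g⁻¹ * a⁻¹ ∈ T → g * a * g⁻¹ * a⁻¹ ∈ S := by
    intro a ha hT'
    set z := g * a * g⁻¹ * a⁻¹ with hz
    have hzH : z ∈ H := hT'.1
    have hgc : g * z = z * g := hgz z hzH (hnfT z hT')
    have hit : ∀ n : ℕ, g ^ n * a * (g ^ n)⁻¹ = z ^ n * a := by
      intro n
      induction n with
      | zero => simp
      | succ n ih =>
        have hgzn : g * z ^ n = z ^ n * g := (Commute.pow_right hgc n).eq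
        calc g ^ (n + 1) * a * (g ^ (n + 1))⁻¹ = g * (g ^ n * a * (g ^ n)⁻¹) * g⁻¹ := by
              rw [pow_succ']; group
          _ = (g * z ^ n) * (a * g⁻¹) := by rw [ih]; group
          _ = (z ^ n * g) * (a * g⁻¹) := by rw [hgzn]
          _ = z ^ n * z * a := by rw [hz]; group
          _ = _ := by rw [pow_succ]
    have h1 := hit (orderOf g)
    rw [pow_orderOf_eq_one, one_mul, inv_one, mul_one, right_eq_mul] at h1
    obtain ⟨i, hi⟩ := hgord
    by_contra hzS
    refine hrS ?_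
    obtain ⟨j, -, hj⟩ := (Nat.dvd_prime_pow P.hr).mp (hi ▸ orderOf_dvd_of_pow_eq_one h1)
    have hj0 : j ≠ 0 := fun e => hzS (by
      rw [e, pow_zero, orderOf_eq_one_iff] at hj
      rw [hj]; exact one_mem _)
    haveI : (S.subgroupOf H).Normal := by
      haveI : IsMulCommutative H := ⟨⟨fun a b => Subtype.ext (P.abH a a.2 b b.2)⟩⟩
      exact inferInstance
    by_contra hnd
    refine hzS ?_
    have h2 : ((⟨z, hzH⟩ : H) : H ⧸ S.subgroupOf H) = 1 := by
      refine orderOf_eq_one_iff.mp (Nat.eq_one_of_dvd_coprimes (Nat.Coprime.pow_left j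
        ((P.hr.coprime_iff_not_dvd).mpr hnd)) ?_ (orderOf_dvd_natCard _))
      refine orderOf_dvd_of_pow_eq_one ?_
      rw [← QuotientGroup.mk_pow, show (⟨z, hzH⟩ : H) ^ r ^ j = 1 from Subtype.ext (by
        push_cast; rw [← hj, pow_orderOf_eq_one]), QuotientGroup.mk_one]
    exact Subgroup.mem_subgroupOf.mp ((QuotientGroup.eq_one_iff _).mp h2)
  rw [Nat.card_congr (Equiv.subtypeEquivRight fun a : H =>
    (⟨fun h => hTS a a.2 h, fun h => hST h⟩ : g * (a : G) * g⁻¹ * (a : G)⁻¹ ∈ T ↔ _))] at cU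
  rw [card_linear_hom, ← hv] at cV
  rw [Palfy.card_hom habU', ← hu] at cU
  have hA1 : Nat.card {a : H // g * (a : G) * g⁻¹ * (a : G)⁻¹ ∈ S} < Nat.card H := by
    haveI := Fintype.ofFinite H
    haveI := Fintype.ofFinite {a : H // g * (a : G) * g⁻¹ * (a : G)⁻¹ ∈ S}
    rw [Nat.card_eq_fintype_card, Nat.card_eq_fintype_card]
    exact Fintype.card_subtype_lt (x := ⟨y, P.Qle P.yQ⟩) hwS
  have hA0 : 0 < Nat.card {a : H // g * (a : G) * g⁻¹ * (a : G)⁻¹ ∈ S} := by
    haveI : Nonempty {a : H // g * (a : G) * g⁻¹ * (a : G)⁻¹ ∈ S} := ⟨⟨1, by simp⟩⟩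
    exact Nat.card_pos
  -- the fixed subgroups are `p`-groups
  let fixL : Subgroup (X →* ℂˣ) := (Palfy.dualAct X g).toMonoidHom.eqLocus (MonoidHom.id _)
  let fixU : Subgroup (U →* ℂˣ) := (Palfy.dualAct U g).toMonoidHom.eqLocus (MonoidHom.id _)
  have hLp : IsPGroup p (X →* ℂˣ) := fun φ => ⟨1, MonoidHom.ext fun x => by
    rw [pow_one, MonoidHom.pow_apply, MonoidHom.one_apply, ← map_pow]
    exact MonoidHom.mem_ker.mp ((Abelianization.commutator_subset_ker φ) (hXpow x))⟩
  have hUdp : IsPGroup p (U →* ℂˣ) := fun φ => ⟨1, MonoidHom.ext fun x => by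
    rw [pow_one, MonoidHom.pow_apply, MonoidHom.one_apply, ← map_pow,
      show x ^ p = 1 from Subtype.ext (hexp x x.2), map_one]⟩
  obtain ⟨β, hβ⟩ := IsPGroup.iff_card.mp (hLp.to_subgroup fixL)
  obtain ⟨δ, hδ⟩ := IsPGroup.iff_card.mp (hUdp.to_subgroup fixU)
  rw [show Nat.card {m : X →* ℂˣ // Palfy.dualAct X g m = m} = p ^ β from hβ, hα] at cV
  rw [show Nat.card {m : U →* ℂˣ // Palfy.dualAct U g m = m} = p ^ δ from hδ, hu, hγ] at cU
  have hγ1 : 1 ≤ γ := Nat.one_le_iff_ne_zero.mpr fun e => by rw [hu, hγ, e, pow_zero] at hu1; omega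
  have hα1 : 1 ≤ α := Nat.one_le_iff_ne_zero.mpr fun e => by rw [hα, e, pow_zero] at hvpos; omega
  have := exponent_eq hp hα1 hγ1 hA0 hA1 cV.symm cU.symm
  rw [hα, hu, hγ, this] at huv
  exact lt_irrefl _ huv

theorem Fpf.quotient {X U₀ : Subgroup G} [X.Normal] [U₀.Normal] (hle : U₀ ≤ X) {h : G} (hf : Fpf X h)
    {x : G} (hx : x ∈ X) (hc : h * x * h⁻¹ * x⁻¹ ∈ U₀) : x ∈ U₀ := by
  have hf₀ : Fpf U₀ h := fun u hu e => hf u (hle hu) e
  have hc' : x⁻¹ * (h * x * h⁻¹) ∈ U₀ := by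
    have := Subgroup.Normal.conj_mem ‹U₀.Normal› _ hc x⁻¹
    simpa [mul_assoc] using this
  obtain ⟨n, hn⟩ := hf₀.exists_comm ⟨_, hc'⟩
  have e : (n : G)⁻¹ * (h * n * h⁻¹) = x⁻¹ * (h * x * h⁻¹) := hn
  have h1 : h * (x * (n : G)⁻¹) = x * (n : G)⁻¹ * h := by
    calc h * (x * (n : G)⁻¹) = x * (x⁻¹ * (h * x * h⁻¹)) * h * (n : G)⁻¹ := by group
      _ = x * ((n : G)⁻¹ * (h * n * h⁻¹)) * h * (n : G)⁻¹ := by rw [e]
      _ = x * (n : G)⁻¹ * h := by group
  rw [mul_inv_eq_one.mp (hf _ (mul_mem hx (inv_mem (hle n.2))) h1)]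
  exact n.2

/-- The normal subgroup of the configuration is abelian. -/
theorem Pair.commutator_eq_bot [Group.IsSolvable G] {X : Subgroup G} [X.Normal] {H Qs R : Subgroup G}
    {g y : G} {q r : ℕ} {A : Set ℕ} (P : Pair X H Qs R g y q r A) : ⁅X, X⁆ = ⊥ := by
  classical
  by_contra hU
  obtain ⟨U₀, ⟨hU₀n, hU₀lt⟩, hmax⟩ :=
    (Set.toFinite {V : Subgroup G | V.Normal ∧ V < ⁅X, X⁆}).exists_maximal
      ⟨⊥, inferInstance, bot_lt_iff_ne_bot.mpr hU⟩
  haveI := hU₀n
  set π := QuotientGroup.mk' U₀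
  have hπ : Function.Surjective π := QuotientGroup.mk'_surjective U₀
  haveI hXn : (X.map π).Normal := Subgroup.Normal.map inferInstance π hπ
  have hle : U₀ ≤ X := hU₀lt.le.trans (Subgroup.commutator_le_self X)
  let f : X →* X.map π := π.subgroupMap X
  have hfs : Function.Surjective f := π.subgroupMap_surjective X
  have hcomm : ⁅X.map π, X.map π⁆ = ⁅X, X⁆.map π := (Subgroup.map_commutator X X π).symm
  have hconj : ∀ (k : G) (ψ : X.map π → ℂ) (x : X),
      conjNormFun (X.map π) (π k) ψ (f x) = conjNormFun X k (fun a => ψ (f a)) x := fun k ψ x =>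
    congrArg ψ (Subtype.ext (by simp [f]))
  have hext : ∀ (ψ ψ' : X.map π → ℂ), (∀ x, ψ (f x) = ψ' (f x)) → ψ = ψ' := fun ψ ψ' h => funext fun a => by
    obtain ⟨x, rfl⟩ := hfs a
    exact h x
  have hin : ∀ ψ : X.map π → ℂ,
      (inertia (X.map π) ψ).relIndex (H.map π) = (inertia X (fun a => ψ (f a))).relIndex H := by
    intro ψ
    rw [← Subgroup.relIndex_comap]
    congr 1
    ext k
    rw [Subgroup.mem_comap, mem_inertia, mem_inertia]
    refine ⟨fun e => funext fun x => ?_, fun e => hext _ _ fun x => ?_⟩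
    · rw [← hconj, e]
    · rw [hconj, e]
  have hP : Pair (X.map π) (H.map π) (Qs.map π) (R.map π) (π g) (π y) q r A :=
    { abH := by
        rintro _ ⟨a, ha, rfl⟩ _ ⟨b, hb, rfl⟩
        rw [← map_mul, P.abH a ha b hb, map_mul]
      gen := by rw [← Subgroup.map_sup, P.gen, Subgroup.map_top_of_surjective π hπ]
      RH := (Subgroup.map_mono P.RH).trans (Subgroup.le_normalizer_map π)
      dich := by
        rintro _ ⟨a, ha, rfl⟩
        rcases P.dich a ha with h | h
        · left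
          rintro _ ⟨x, hx, rfl⟩ e
          refine (QuotientGroup.eq_one_iff x).mpr (h.quotient hle hx ?_)
          rw [← map_mul, ← map_mul] at e
          have h1 : π (a * x * (x * a)⁻¹) = 1 := by rw [map_mul, e, ← map_mul, mul_inv_cancel, map_one]
          rw [mul_inv_rev, ← mul_assoc] at h1
          exact (QuotientGroup.eq_one_iff _).mp h1
        · right
          rintro _ ⟨k, hk, rfl⟩
          rw [← map_mul, h k hk, map_mul]
      gH := ⟨g, P.gH, rfl⟩
      gr := by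
        rw [← MonoidHom.map_zpowers]
        exact P.gr.map π
      hq := P.hq
      hr := P.hr
      hqr := P.hqr
      Qle := Subgroup.map_mono P.Qle
      Qp := P.Qp.map π
      gQ := by
        rintro _ ⟨a, ha, rfl⟩
        exact ⟨_, P.gQ a ha, by rw [map_mul, map_mul, map_inv]⟩
      Qcop := fun hd => P.Qcop (hd.trans (Subgroup.card_map_dvd X π))
      yQ := ⟨y, P.yQ, rfl⟩
      hy := by
        rintro _ ⟨x, hx, rfl⟩ e
        refine (QuotientGroup.eq_one_iff x).mpr (P.hy.quotient hle hx ?_)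
        simp only [← map_inv, ← map_mul] at e
        have h1 : π (g * y * g⁻¹ * y⁻¹ * x * (x * (g * y * g⁻¹ * y⁻¹))⁻¹) = 1 := by
          rw [map_mul, e, ← map_mul, mul_inv_cancel, map_one]
        rw [mul_inv_rev, ← mul_assoc] at h1
        exact (QuotientGroup.eq_one_iff _).mp h1
      anti := P.anti
      big := P.big
      rA := P.rA
      deg := fun ψ hψ hne => by
        obtain ⟨m, hm, hd⟩ := P.deg _ (isIrrCharacter_comp_surjective hψ f hfs)
          (fun e => hne (hext _ _ fun x => congrFun e x))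
        refine ⟨m, hm, ?_⟩
        rw [hin ψ, show charDegree ψ = charDegree (fun a => ψ (f a)) from (PrimeSep.charDegree_comp f ψ).symm]
        exact hd
      lin := fun φ hφ => by
        rw [hin]
        exact P.lin (φ.comp f) fun e => hφ (MonoidHom.ext fun a => by
          obtain ⟨x, rfl⟩ := hfs a
          exact DFunLike.congr_fun e x)
      inv := fun ψ hψ k => by
        obtain ⟨k, rfl⟩ := hπ k
        obtain ⟨h, hh, e⟩ := P.inv _ (isIrrCharacter_comp_surjective hψ f hfs) k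
        exact ⟨π h, ⟨h, hh, rfl⟩, hext _ _ fun x => by rw [hconj, hconj, e]⟩ }
  refine hP.false_of_minimal ?_ fun V hV hVle => ?_
  · rw [hcomm, Ne, Subgroup.map_eq_bot_iff, QuotientGroup.ker_mk']
    exact hU₀lt.not_ge
  · rw [hcomm] at hVle ⊢
    haveI := hV
    have h0 : U₀ ≤ V.comap π := by
      intro u hu
      rw [Subgroup.mem_comap, show π u = 1 from (QuotientGroup.eq_one_iff u).mpr hu]
      exact one_mem V
    have h1 : V.comap π ≤ ⁅X, X⁆ := by
      refine (Subgroup.comap_mono hVle).trans ?_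
      rw [Subgroup.comap_map_eq, QuotientGroup.ker_mk']
      exact sup_le le_rfl hU₀lt.le
    rcases eq_or_lt_of_le h1 with e | e
    · right; rw [← e, Subgroup.map_comap_eq_self_of_surjective hπ]
    · left
      have h2 := le_antisymm (hmax ⟨inferInstance, e⟩ h0) h0
      rw [← Subgroup.map_comap_eq_self_of_surjective hπ V, h2, QuotientGroup.map_mk'_self]

end CfsgLib.NoDivPair
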